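import Cfsg.Agent.Fi24Mult77.Defs
import Cfsg.Agent.SporB.Fi24.Main
import Cfsg.Agent.Lib.Schur.Perfect

/-!
From stem extensions of the derived subgroup of the presented `Fi24` to extensions of the whole group.
-/

set_option autoImplicit false
set_option maxRecDepth 100000

namespace Cfsg.Agent.Fi24Mult77
open Cfsg.Agent.CosetEnum
open Cfsg.Agent.CosetEnum.Fi24 (G pres toModel signHom signHom_neg val_sq derived_model group24)
open Cfsg.Agent.Exist24 (Gm D24 checked)
open Subgroup

theorem finite_g : Finite G := Finite.of_equiv _ (toModel checked).symm.toEquiv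

theorem sign_words : ∀ W ∈ pres.relWords,
    evalWord (letterVal pres.gens fun _ => (-1 : ℤˣ)) W = 1 := by
  have h : pres.relWords.all (fun W => W.all (fun l => Nat.blt l 12) && Nat.beq (W.length % 2) 0) = true := by
    decide +kernel
  have e : ∀ W : List ℕ, (∀ l ∈ W, l < 12) →
      evalWord (letterVal pres.gens fun _ => (-1 : ℤˣ)) W = (-1) ^ W.length := by
    intro W
    induction W with
    | nil => intro _; rfl
    | cons l W ih =>
      intro hW
      rw [evalWord, ih fun x hx => hW x (List.mem_cons_of_mem _ hx),
        letterVal_of_lt _ _ (show l < pres.gens.length from hW l List.mem_cons_self), List.length_cons, pow_succ']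
  intro W hW
  have h1 := List.all_eq_true.mp h W hW
  rw [Bool.and_eq_true, List.all_eq_true] at h1
  rw [e W fun l hl => Nat.le_of_ble_eq_true (h1.1 l hl),
    (Nat.even_iff.mpr (Nat.eq_of_beq_eq_true h1.2)).neg_one_pow]

/-- The parity of the words. -/
noncomputable def sgn : G →* ℤˣ := PresentedGroup.toGroup (pres.kills _ sign_words)

theorem sgn_val {l : ℕ} (hl : l < 12) : sgn (pres.val l) = -1 := by
  rw [InvPres.val, letterVal_of_lt _ _ (show l < pres.gens.length from hl), sgn, PresentedGroup.toGroup.of]

theorem commutator_le_sgn : commutator G ≤ sgn.ker := Abelianization.commutator_subset_ker sgn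

theorem index_commutator : (commutator G).index = 2 := by
  haveI := finite_g
  have hmap : (commutator G).map (toModel checked).toMonoidHom = commutator (Gm checked) := by
    rw [map_commutator_eq, MonoidHom.range_eq_top.mpr (toModel checked).surjective, commutator_def]
  have hi : (commutator (Gm checked)).index = 2 := by
    haveI : Finite (Gm checked) := inferInstance
    have ht := Exist24.type24 checked ⟨Exist24.type23.1, Exist24.type23.2.2⟩
    obtain ⟨d, q, hG⟩ := TT95.cfg24_of_type (group24 checked) (Exist24.prim24 checked) ht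
    haveI := TT95.Gen.of_group (group24 checked)
    exact TT95.index_commutator24 hG
  rw [← hi, ← hmap]
  exact (index_map_equiv (commutator G) (toModel checked)).symm

theorem ell_not_mem : pres.val 10 ∉ commutator G := fun h => by
  have h1 := commutator_le_sgn h
  rw [MonoidHom.mem_ker, sgn_val (by omega)] at h1
  exact absurd h1 (by decide)

theorem perfect_derived : Group.IsPerfect (commutator G) := by
  haveI := finite_g
  obtain ⟨h1, h2⟩ := Fi24.fi24_prime
  haveI : IsSimpleGroup (commutator G) := h1
  rcases (inferInstance : (commutator (commutator G)).Normal).eq_bot_or_eq_top with h | h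
  · exfalso
    have hc : ∀ a b : commutator G, a * b = b * a := fun a b =>
      commutatorElement_eq_one_iff_mul_comm.1 (mem_bot.1 (h.le (commutator_mem_commutator (mem_top a) (mem_top b))))
    letI : CommGroup (commutator G) := { (inferInstance : Group (commutator G)) with mul_comm := hc }
    have hp := IsSimpleGroup.prime_card (α := commutator G)
    have h2' : Nat.card (commutator G) = 1255205709190661721292800 := h2
    rw [h2'] at hp
    exact (hp.eq_one_or_self_of_dvd 2 (by norm_num)).elim (by norm_num) (by norm_num)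
  · exact ⟨h⟩

/-- Stem extensions of the derived subgroup are bounded by the bound on the extensions of the whole group. -/
theorem stem_of_upper (hU : UpperStmt) : StemStmt := by
  intro E _ _ σ hσ
  classical
  haveI := finite_g
  obtain ⟨U, _, _, π, hperf, hstem, huniv⟩ :=
    Schur.exists_universal.{0, 0} (Q := commutator G) perfect_derived
  obtain ⟨η, hη, -⟩ := huniv E σ hσ.1 hσ.2.1
  have hcomE : σ.ker ≤ η.range := by
    refine hσ.2.2.trans (le_of_eq_of_le ?_ (map_le_range η (commutator U)))
    exact Schur.commutator_eq_map σ hσ.2.1 η (hη ▸ hstem.1)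
  have hcard : Nat.card σ.ker ∣ Nat.card π.ker := by
    refine Subgroup.card_dvd_of_surjective ((η.comp π.ker.subtype).codRestrict σ.ker fun x => ?_) ?_
    · exact (DFunLike.congr_fun hη x.1).trans (MonoidHom.mem_ker.1 x.2)
    · rintro ⟨y, hy⟩
      obtain ⟨u, rfl⟩ := hcomE hy
      exact ⟨⟨u, MonoidHom.mem_ker.2 ((DFunLike.congr_fun hη u).symm.trans (MonoidHom.mem_ker.1 hy))⟩, rfl⟩
  refine hcard.trans ?_
  -- the automorphism of the cover over conjugation by the involution
  set l : G := pres.val 10 with hl
  let c : MulAut (commutator G) := MulAut.conjNormal l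
  have hcc : ∀ x, c (c x) = x := fun x => by
    rw [← MulAut.mul_apply, ← map_mul, val_sq, map_one, MulAut.one_apply]
  have hsymm : ∀ x, c.symm x = c x := fun x => by
    apply c.injective
    rw [MulEquiv.apply_symm_apply, hcc]
  obtain ⟨τ, hτ, -⟩ := huniv U (c.toMonoidHom.comp π) (c.surjective.comp hstem.1) (fun x hx => hstem.2.1 (by
    rw [MonoidHom.mem_ker, MonoidHom.comp_apply] at hx
    exact MonoidHom.mem_ker.2 ((map_eq_one_iff c.toMonoidHom c.injective).1 hx)))
  have hτ' : ∀ u, π (τ u) = c (π u) := fun u => by
    have h := congrArg c (DFunLike.congr_fun hτ u)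
    rw [MonoidHom.comp_apply, MonoidHom.comp_apply, MulEquiv.coe_toMonoidHom, hcc] at h
    exact h
  have hττ : τ.comp τ = MonoidHom.id U :=
    Schur.hom_ext_of_perfect hperf π hstem.2.1 _ _ (MonoidHom.ext fun u => by
      show π (τ (τ u)) = π u
      rw [hτ', hτ', hcc])
  let τe : MulAut U := MonoidHom.toMulEquiv τ τ hττ hττ
  have hτe : τe * τe = 1 := MulEquiv.ext fun u => DFunLike.congr_fun hττ u
  let φ : ℤˣ →* MulAut U :=
    { toFun := fun s => if s = 1 then 1 else τe
      map_one' := if_pos rfl
      map_mul' := fun s t => by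
        rcases Int.units_eq_one_or s with rfl | rfl <;> rcases Int.units_eq_one_or t with rfl | rfl <;>
          simp [hτe] }
  let f : U →* G := (commutator G).subtype.comp π
  have hcompat : ∀ s, f.comp (φ s).toMonoidHom = (MulAut.conj (Fi24.signHom s)).toMonoidHom.comp f := by
    intro s
    refine MonoidHom.ext fun u => ?_
    rcases Int.units_eq_one_or s with rfl | rfl
    · simp
    · show f ((if (-1 : ℤˣ) = 1 then (1 : MulAut U) else τe) u) = Fi24.signHom (-1) * f u * (Fi24.signHom (-1))⁻¹
      rw [if_neg (by decide), signHom_neg]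
      show ((π (τ u) : commutator G) : G) = l * (π u : G) * l⁻¹
      rw [hτ', MulAut.conjNormal_apply]
  let pr : U ⋊[φ] ℤˣ →* G := SemidirectProduct.lift f Fi24.signHom hcompat
  have hpr : ∀ x, pr x = (π x.left : G) * Fi24.signHom x.right := fun _ => rfl
  have hsign : ∀ s, Fi24.signHom s ∈ commutator G → s = 1 := by
    intro s hs
    rcases Int.units_eq_one_or s with rfl | rfl
    · rfl
    · rw [signHom_neg] at hs
      exact absurd hs ell_not_mem
  have hright : ∀ x, pr x ∈ commutator G → x.right = 1 := fun x hx => hsign _ (by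
    rwa [hpr, mul_mem_cancel_left (π x.left).2] at hx)
  have hker : ∀ x, pr x = 1 → x.right = 1 ∧ π x.left = 1 := by
    intro x hx
    have h1 : x.right = 1 := hright x (by rw [hx]; exact one_mem _)
    rw [hpr, h1, map_one, mul_one] at hx
    exact ⟨h1, Subtype.ext hx⟩
  have hinl : ∀ x : U ⋊[φ] ℤˣ, x.right = 1 → x = SemidirectProduct.inl x.left := fun x hx =>
    SemidirectProduct.ext rfl hx
  have hrange : (commutator G).comap pr = (SemidirectProduct.inl : U →* U ⋊[φ] ℤˣ).range := by
    ext x
    constructor
    · intro hx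
      exact ⟨x.left, (hinl x (hright x hx)).symm⟩
    · rintro ⟨u, rfl⟩
      show pr _ ∈ commutator G
      rw [SemidirectProduct.lift_inl]
      exact (π u).2
  haveI : Finite (U ⋊[φ] ℤˣ) := Finite.of_equiv _ SemidirectProduct.equivProd.symm
  let e : Ext (U ⋊[φ] ℤˣ) :=
    { pr := pr
      surj := fun g => by
        by_cases hg : g ∈ commutator G
        · obtain ⟨u, hu⟩ := hstem.1 ⟨g, hg⟩
          exact ⟨SemidirectProduct.inl u, by rw [SemidirectProduct.lift_inl]; exact congrArg Subtype.val hu⟩
        · have h2 : g * l ∈ commutator G :=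
            (mul_mem_iff_of_index_two index_commutator).2 (iff_of_false hg ell_not_mem)
          obtain ⟨u, hu⟩ := hstem.1 ⟨_, h2⟩
          refine ⟨⟨u, -1⟩, ?_⟩
          rw [hpr, show π u = ⟨g * l, h2⟩ from hu, signHom_neg]
          show g * l * l = g
          rw [mul_assoc, val_sq, mul_one]
      comm := fun a b ha hb => by
        obtain ⟨a1, a2⟩ := hker a ha
        obtain ⟨b1, -⟩ := hker b hb
        rw [hinl a a1, hinl b b1]
        exact (show Commute a.left b.left from (mem_center_iff.1 (hstem.2.1 (MonoidHom.mem_ker.2 a2)) b.left).symm).map _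
      even := fun a g ha hg => by
        obtain ⟨a1, a2⟩ := hker a ha
        rw [hinl a a1, hinl g (hright g hg)]
        exact (show Commute a.left g.left from (mem_center_iff.1 (hstem.2.1 (MonoidHom.mem_ker.2 a2)) g.left).symm).map _
      perfect := by
        rw [hrange, MonoidHom.range_eq_map, ← map_commutator, ← _root_.commutator_def,
          Group.IsPerfect.commutator_eq_top (self := hperf)]
      lt := SemidirectProduct.inr (-1)
      lt_pr := by rw [SemidirectProduct.lift_inr, signHom_neg]
      lt_sq := by rw [← map_mul]; simp }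
  have hk : pr.ker = π.ker.map (SemidirectProduct.inl : U →* U ⋊[φ] ℤˣ) := by
    ext x
    constructor
    · intro hx
      obtain ⟨x1, x2⟩ := hker x hx
      exact ⟨x.left, x2, (hinl x x1).symm⟩
    · rintro ⟨u, hu, rfl⟩
      show pr _ = 1
      rw [SemidirectProduct.lift_inl]
      exact congrArg Subtype.val (MonoidHom.mem_ker.1 hu)
  have h3 : Nat.card pr.ker ∣ 3 := hU _ e
  rwa [hk, Subgroup.card_map_of_injective SemidirectProduct.inl_injective] at h3

/-- The multiplier from the bound and a cover. -/
theorem multiplier_of (hS : StemStmt)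
    (hC : ∃ (E : Type) (_ : Group E) (_ : Finite E) (s : E →* Cfsg.Spor.Fi24'),
      Cfsg.IsStemExtension s ∧ Nat.card s.ker = 3) :
    Cfsg.HasCyclicSchurMultiplier Cfsg.Spor.Fi24' 3 := by
  haveI : Fact (Nat.Prime 3) := ⟨by norm_num⟩
  have h3 : Nat.card (Multiplicative (ZMod 3)) = 3 := by simp
  refine ⟨?_, fun Γ _ _ σ hσ => ?_⟩
  · obtain ⟨E, i1, i2, s, hs, hc⟩ := hC
    exact ⟨E, i1, i2, s, hs, ⟨mulEquivOfPrimeCardEq hc h3⟩⟩
  · rcases (Nat.dvd_prime (by norm_num)).1 (hS Γ σ hσ) with h | h
    · haveI : Subsingleton σ.ker := (Nat.card_eq_one_iff_unique.1 h).1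
      exact ⟨1, fun y => ⟨1, Subsingleton.elim _ _⟩⟩
    · exact ⟨(mulEquivOfPrimeCardEq h3 h).toMonoidHom, (mulEquivOfPrimeCardEq h3 h).surjective⟩

end Cfsg.Agent.Fi24Mult77
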