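import Cfsg.Agent.SporB.Fi24.Node
import Cfsg.Prelude.Def_KGroupFacts

/-!
Extensions of the presented `Fi24` with abelian kernel centralised by the derived subgroup.
-/

set_option autoImplicit false

namespace Cfsg.Agent.Fi24Mult77
open Cfsg.Agent.CosetEnum
open Cfsg.Agent.CosetEnum.Fi24 (G pres jh)
open Cfsg.Agent.Exist24 (G2 neg' Checked)

/-- An extension of `Fi24` by an abelian group centralised by the even elements, perfect over `Fi24'`, with an
involution over the letter `l`. -/
structure Ext (Γ : Type) [Group Γ] where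
  pr : Γ →* G
  surj : Function.Surjective pr
  comm : ∀ a b, pr a = 1 → pr b = 1 → Commute a b
  even : ∀ a g, pr a = 1 → pr g ∈ commutator G → Commute a g
  perfect : ⁅(commutator G).comap pr, (commutator G).comap pr⁆ = (commutator G).comap pr
  lt : Γ
  lt_pr : pr lt = pres.val 10
  lt_sq : lt * lt = 1

/-- The bound on the kernels. -/
def UpperStmt : Prop := ∀ (Γ : Type) [Group Γ] [Finite Γ] (e : Ext Γ), Nat.card e.pr.ker ∣ 3

/-- The double cover of the centraliser of `l` lifts. -/
def LiftStmt (H : Checked) : Prop := ∀ (Γ : Type) [Group Γ] [Finite Γ] (e : Ext Γ),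
  ∃ h : G2 →* Γ, (∀ p, e.pr (h p) = jh H p) ∧ h (neg' 1) = e.lt

/-- The kernels of the stem extensions of `Fi24'`. -/
def StemStmt : Prop := ∀ (E : Type) [Group E] [Finite E] (σ : E →* Cfsg.Spor.Fi24'),
  Cfsg.IsStemExtension σ → Nat.card σ.ker ∣ 3

end Cfsg.Agent.Fi24Mult77
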