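import Cfsg.Agent.SporB.Fi24.Index

/-!
The closing word of the presented `Fi24` dies in an extension with lifts of the generators that satisfy the other
relations, once the last generator of the stabiliser commutes with the lift of `k`.
-/

set_option autoImplicit false
set_option maxRecDepth 100000
set_option linter.unusedSectionVars false

namespace Cfsg.Agent.Fi24Mult77
open Cfsg.Agent.CosetEnum
open Cfsg.Agent.Exist24 (X G2 sig neg' gen el kP cd dc oX aX Kset lC gC kC Checked)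
open Cfsg.Agent.CosetEnum.Fi23.Tri (act)
open Cfsg.Agent.CosetEnum.Fi24 (G pres phi phi_val phi_word phi_jh jh strip strip_lt strip_ge runC cd_run C9w c9_spec
  spell gens2 table2 table2_ok v2 sW B2 base_codes stab_oX fix_k startW)



/-- Lifts of the twelve letters to a group over the presented `Fi24`. -/
structure Lifts (H : Checked) (Γ : Type) [Group Γ] where
  pr : Γ →* G
  v : ℕ → Γ
  h : G2 →* Γ
  pr_v : ∀ l < 12, pr (v l) = pres.val l
  pr_h : ∀ p, pr (h p) = jh H p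
  h_el : h (neg' 1) = v 10
  h_gen : ∀ l < 10, h (neg' (Fi23.pres.val l)) = v l
  sq : ∀ l, v l * v l = 1
  kc : ∀ l, 1 ≤ l → l < 10 → Commute (v 11) (v l)
  br : ∀ t, t = 0 ∨ t = 10 → v 11 * (v t * v 11) = v t * (v 11 * v t)
  tau : Commute (v 11) (evalWord v Fi23.Tri.xFull)

variable {H : Checked} {Γ : Type} [Group Γ] (L : Lifts H Γ)

theorem val_inv (l : ℕ) : (L.v l)⁻¹ = L.v l := inv_eq_of_mul_eq_one_right (L.sq l)

theorem eval_rev : ∀ W : List ℕ, evalWord L.v W.reverse = (evalWord L.v W)⁻¹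
  | [] => by simp [evalWord]
  | l :: W => by
    rw [List.reverse_cons, evalWord_append, eval_rev W]
    show _ * (L.v l * 1) = (L.v l * evalWord L.v W)⁻¹
    rw [mul_one, mul_inv_rev, val_inv]

theorem word_h : ∀ {W : List ℕ}, (∀ l ∈ W, l < 11) →
    evalWord L.v W = L.h ((-1) ^ W.length, evalWord Fi23.pres.val (strip W))
  | [], _ => (map_one _).symm
  | l :: W, h => by
    rw [evalWord, word_h (fun x hx => h x (List.mem_cons_of_mem _ hx))]
    have hl := h l List.mem_cons_self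
    rcases Nat.lt_or_ge l 10 with h10 | h10
    · rw [← L.h_gen l h10, ← map_mul, strip_lt W h10]
      congr 1
      ext
      · simp [neg', pow_succ']
      · rfl
    · obtain rfl : l = 10 := by omega
      rw [← L.h_el, ← map_mul, strip_ge]
      congr 1
      ext
      · simp [neg', pow_succ']
      · simp [neg']

theorem pr_word : ∀ {W : List ℕ}, (∀ l ∈ W, l < 12) → L.pr (evalWord L.v W) = evalWord pres.val W
  | [], _ => map_one _
  | l :: W, h => by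
    rw [evalWord, evalWord, map_mul, L.pr_v l (h l List.mem_cons_self),
      pr_word fun x hx => h x (List.mem_cons_of_mem _ hx)]

theorem k_comm {l : ℕ} (h1 : 1 ≤ l) (h : l < 10) : Commute (L.v 11) (L.v l) := L.kc l h1 h

theorem comm_swap {a b : ℕ} (h : Commute (L.v a) (L.v b)) : evalWord L.v [a, b] = evalWord L.v [b, a] := by
  simp only [evalWord, mul_one]; exact h.eq

theorem l_comm {l : ℕ} (hl : l < 11) : Commute (L.v 10) (L.v l) := by
  rcases Nat.lt_or_ge l 10 with h | h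
  · rw [← L.h_el, ← L.h_gen l h]
    refine Commute.map ?_ L.h
    show neg' 1 * neg' _ = neg' _ * neg' 1
    simp [Exist24.neg'_mul]
  · obtain rfl : l = 10 := by omega
    exact Commute.refl _

theorem braid3 {t : ℕ} (ht : t = 0 ∨ t = 10) : evalWord L.v [11, t, 11] = evalWord L.v [t, 11, t] := by
  simp only [evalWord, mul_one]; exact L.br t ht

/-- The subgroup of all letters but `k`. -/
noncomputable def Hs : Subgroup Γ := L.h.range

theorem word_mem {W : List ℕ} (h : ∀ l ∈ W, l < 11) : evalWord L.v W ∈ Hs L := ⟨_, (word_h L h).symm⟩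

theorem a_comm (c : ℕ) (h2 : 2 ≤ c) (h10 : c < 10) : Commute (L.v 0) (L.v c) := by
  have ht : ((-1 : ℤˣ) ^ [0, c].length, evalWord Fi23.pres.val (strip [0, c])) =
      ((-1 : ℤˣ) ^ [c, 0].length, evalWord Fi23.pres.val (strip [c, 0])) := by
    refine Prod.ext rfl ?_
    have e := Fi23.pres.rel_val [0, c, 0, c] ((by decide +kernel : ∀ m < 10, 2 ≤ m → [0, m, 0, m] ∈ Fi23.pres.relWords) c h10 h2)
    rw [strip_lt _ (by omega), strip_lt _ h10, strip_lt _ h10, strip_lt _ (by omega)]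
    show evalWord Fi23.pres.val [0, c] = evalWord Fi23.pres.val [c, 0]
    rw [show [0, c, 0, c] = [0, c] ++ [0, c] from rfl, evalWord_append, mul_eq_one_iff_eq_inv] at e
    rw [e, ← Fi23.inv_word]
    rfl
  have h := (word_h L (W := [0, c]) (by simp; omega)).trans ((congrArg L.h ht).trans (word_h L (W := [c, 0]) (by simp; omega)).symm)
  simp only [evalWord, mul_one] at h
  exact h

/- The cosets and edges, as in `SporB/Fi24`. -/
/-- The cosets. -/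
abbrev Cos : Type := Γ ⧸ Hs L

/-- The coset reached by a word. -/
noncomputable def pt (W : List ℕ) : Cos L := ((evalWord L.v W)⁻¹ : Γ)

theorem pt_append (A B : List ℕ) : pt L (A ++ B) = (evalWord L.v B)⁻¹ • pt L A := by
  rw [pt, pt, evalWord_append, mul_inv_rev]
  rfl

theorem pt_congr {A B : List ℕ} (h : pt L A = pt L B) (C : List ℕ) : pt L (A ++ C) = pt L (B ++ C) := by
  rw [pt_append, pt_append, h]

theorem pt_eval {A B : List ℕ} (h : evalWord L.v A = evalWord L.v B) : pt L A = pt L B := by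
  rw [pt, pt, h]

theorem pt_swap (A : List ℕ) {U V : List ℕ} (h : evalWord L.v U = evalWord L.v V) (B : List ℕ) :
    pt L (A ++ U ++ B) = pt L (A ++ V ++ B) :=
  pt_eval L (by simp only [evalWord_append, h])

theorem pt_drop {U : List ℕ} (hU : ∀ l ∈ U, l < 11) (W : List ℕ) : pt L (U ++ W) = pt L W := by
  refine QuotientGroup.eq.mpr ?_
  rw [inv_inv, evalWord_append, mul_assoc, mul_inv_cancel, mul_one]
  exact word_mem L hU

theorem k_word_comm : ∀ {c : List ℕ}, (∀ l ∈ c, 1 ≤ l ∧ l < 10) → Commute (L.v 11) (evalWord L.v c)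
  | [], _ => Commute.one_right _
  | l :: c, h => (k_comm L (h l List.mem_cons_self).1 (h l List.mem_cons_self).2).mul_right
      (k_word_comm fun x hx => h x (List.mem_cons_of_mem _ hx))

/-- The new letter maps one coset to another. -/
def Edge (P Q : List ℕ) : Prop := pt L (P ++ [11]) = pt L Q

theorem kk : evalWord L.v [11, 11] = evalWord L.v [] := by simp [evalWord, L.sq]

variable {L}

theorem Edge.symm {P Q : List ℕ} (h : Edge L P Q) : Edge L Q P := by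
  show pt L (Q ++ [11]) = pt L P
  rw [← pt_congr L h [11]]
  have := pt_swap L P (U := [11, 11]) (V := []) (kk L) []
  simpa [List.append_assoc] using this

theorem Edge.move {P Q : List ℕ} (h : Edge L P Q) {c : List ℕ} (hc : ∀ l ∈ c, 1 ≤ l ∧ l < 10) :
    Edge L (P ++ c) (Q ++ c) := by
  show pt L (P ++ c ++ [11]) = pt L (Q ++ c)
  rw [← pt_congr L h c]
  refine pt_eval L ?_
  simp only [evalWord_append, evalWord, mul_one, mul_assoc]
  rw [(k_word_comm L hc).eq]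

theorem Edge.congr {P Q P' Q' : List ℕ} (h : Edge L P Q) (hp : pt L P' = pt L P) (hq : pt L Q = pt L Q') :
    Edge L P' Q' := (pt_congr L hp [11]).trans (Eq.trans h hq)

theorem Edge.braid {Q R S : List ℕ} {t : ℕ} (ht : t = 0 ∨ t = 10) (h1 : Edge L Q R)
    (h2 : Edge L (R ++ [t]) S) : Edge L (Q ++ [t]) (S ++ [t]) := by
  show pt L (Q ++ [t] ++ [11]) = pt L (S ++ [t])
  rw [← pt_congr L h2 [t]]
  have e1 : pt L (Q ++ [t] ++ [11]) = pt L (R ++ [11] ++ [t] ++ [11]) :=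
    pt_congr L (pt_congr L h1.symm [t]).symm [11]
  have e2 := pt_swap L R (braid3 L ht) []
  simp only [List.append_assoc, List.cons_append, List.nil_append, List.append_nil] at e1 e2 ⊢
  exact e1.trans e2

theorem pt_fix_append {B A C : List ℕ} (hA : pt L (B ++ A) = pt L B) (hC : pt L (B ++ C) = pt L B) :
    pt L (B ++ (A ++ C)) = pt L B := by
  rw [← List.append_assoc, pt_congr L hA C, hC]

theorem pt_fix_reverse {B A : List ℕ} (hA : pt L (B ++ A) = pt L B) : pt L (B ++ A.reverse) = pt L B := by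
  rw [← pt_congr L hA A.reverse]
  refine pt_eval L ?_
  simp only [evalWord_append, (eval_rev L), mul_inv_cancel_right]

/-- The point of a coset. -/
noncomputable def psi (L : Lifts H Γ) : Cos L → X :=
  Quotient.lift (fun g => phi H (L.pr g) (Sum.inl ())) fun a b h => by
    have hab : a⁻¹ * b ∈ Hs L := QuotientGroup.leftRel_apply.mp h
    obtain ⟨p, hp⟩ := hab
    show phi H (L.pr a) (Sum.inl ()) = phi H (L.pr b) (Sum.inl ())
    have hb : b = a * L.h p := by rw [hp, mul_inv_cancel_left]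
    rw [hb, map_mul, map_mul, Equiv.Perm.mul_apply, L.pr_h, phi_jh, Exist24.sig_inl]

theorem psi_smul (g : Γ) (q : Cos L) : psi L (g • q) = phi H (L.pr g) (psi L q) := by
  induction q using QuotientGroup.induction_on with
  | _ a => show phi H (L.pr (g * a)) _ = _; rw [map_mul, map_mul]; rfl

theorem psi_pt {W : List ℕ} (hW : ∀ l ∈ W, l < 12) : cd (psi L (pt L W)) = runC W 0 := by
  show cd (phi H (L.pr (evalWord L.v W)⁻¹) (Sum.inl ())) = _
  rw [map_inv, pr_word L hW, map_inv, phi_word H hW, cd_run]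
  rfl

/-- Equality of cosets in an orbit whose stabiliser is known. -/
theorem pt_eq_of_run {B : List ℕ} (hB : ∀ l ∈ B, l < 12)
    (hfix : ∀ p : G2, sig H p (psi L (pt L B)) = psi L (pt L B) → L.h p • pt L B = pt L B)
    {U V : List ℕ} (hU : ∀ l ∈ U, l < 11) (hV : ∀ l ∈ V, l < 11)
    (hrun : runC (B ++ U) 0 = runC (B ++ V) 0) : pt L (B ++ U) = pt L (B ++ V) := by
  obtain ⟨p, hp⟩ := mul_mem (word_mem L hU) (inv_mem (word_mem L hV))
  have hU12 : ∀ l ∈ B ++ U, l < 12 := fun l hl =>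
    (List.mem_append.mp hl).elim (hB l) fun h => by have := hU l h; omega
  have hV12 : ∀ l ∈ B ++ V, l < 12 := fun l hl =>
    (List.mem_append.mp hl).elim (hB l) fun h => by have := hV l h; omega
  have he : psi L (pt L (B ++ U)) = psi L (pt L (B ++ V)) :=
    Exist24.cd_inj (by rw [psi_pt hU12, psi_pt hV12, hrun])
  rw [pt_append, pt_append, psi_smul, psi_smul] at he
  have hx : sig H p (psi L (pt L B)) = psi L (pt L B) := by
    rw [← phi_jh, ← L.pr_h, hp, map_mul, map_mul, Equiv.Perm.mul_apply, ← he, ← Equiv.Perm.mul_apply, ← map_mul, ← map_mul, mul_inv_cancel, map_one, map_one]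
    rfl
  have h := hfix p hx
  rw [hp, mul_smul] at h
  rw [pt_append, pt_append]
  exact (eq_inv_smul_iff.mpr h).symm


variable (L)

theorem psi_k : psi L (pt L [11]) = el H oX :=
  Exist24.cd_inj (by rw [psi_pt (L := L) (by decide), base_codes.1, Exist24.cd_el, Exist24.cd_oX])

/-- The stabiliser of the point fixes the coset of `k`. -/
theorem hfix1 : ∀ p : G2, sig H p (psi L (pt L [11])) = psi L (pt L [11]) → L.h p • pt L [11] = pt L [11] := by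
  intro p hp
  rw [psi_k] at hp
  have hmem := stab_oX (fix_k hp)
  have hle : Subgroup.closure Kset ≤ (MulAction.stabilizer Γ (pt L [11])).comap L.h := by
    have hword : ∀ {W : List ℕ}, (∀ l ∈ W, l < 11) → Commute (L.v 11) (evalWord L.v W) →
        L.h ((-1) ^ W.length, evalWord Fi23.pres.val (strip W)) • pt L [11] = pt L [11] := by
      intro W hW hc
      have e : pt L ([11] ++ W) = pt L [11] := by
        refine (pt_eval L ?_).trans (pt_drop L hW [11])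
        simp only [evalWord_append, evalWord, mul_one]; exact hc.eq
      rw [← word_h L hW]
      rw [pt_append] at e
      conv_lhs => rw [← e]
      rw [smul_inv_smul]
    rw [Subgroup.closure_le]
    rintro q (rfl | ⟨l, hl, rfl⟩)
    · have e : strip Fi23.Tri.xFull = Fi23.Tri.xFull := by decide +kernel
      have h := hword (W := Fi23.Tri.xFull) (fun l hl => by have := Exist24.xFull_lt l hl; omega) L.tau
      rw [e, show ((-1 : ℤˣ)) ^ Fi23.Tri.xFull.length = -1 by decide] at h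
      exact h
    · obtain ⟨h1, h10⟩ := Exist24.L0l_range l hl
      have h := hword (W := [l]) (by simpa using (show l < 11 by omega))
        (by simpa [evalWord] using L.kc l h1 h10)
      rw [strip_lt _ h10, show strip [] = [] from rfl, show evalWord Fi23.pres.val [l] = Fi23.pres.val l from mul_one _,
        show ((-1 : ℤˣ)) ^ [l].length = -1 from pow_one _] at h
      exact h
  exact hle hmem

/-- Equality of cosets of `k`. -/
theorem eq1 {U V : List ℕ} (h : (U.all (fun l => Nat.blt l 11) && V.all (fun l => Nat.blt l 11) &&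
    Nat.beq (runC ([11] ++ U) 0) (runC ([11] ++ V) 0)) = true) : pt L ([11] ++ U) = pt L ([11] ++ V) := by
  simp only [Bool.and_eq_true, List.all_eq_true] at h
  exact pt_eq_of_run (L := L) (by decide) (hfix1 L) (fun l hl => Nat.le_of_ble_eq_true (h.1.1 l hl))
    (fun l hl => Nat.le_of_ble_eq_true (h.1.2 l hl)) (Nat.eq_of_beq_eq_true h.2)

/-- The closing word. -/
def zW : List ℕ := repWord [3, 2, 1, 0, 11, 10, 3, 4, 5, 6, 7, 3, 8, 9] 17

theorem E0 : Edge L [11] [] := pt_eval L (kk L)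

theorem E4 : Edge L [11, 10] [11, 10] :=
  (pt_eval L (braid3 L (t := 10) (Or.inr rfl))).trans (pt_drop L (U := [10]) (by decide) [11, 10])

theorem E8 : Edge L [11, 0] [11, 0] :=
  (pt_eval L (braid3 L (t := 0) (Or.inl rfl))).trans (pt_drop L (U := [0]) (by decide) [11, 0])

theorem E10 : Edge L [11, 10, 0] B2 := rfl

/-- A word fixing the second coset. -/
abbrev Fix2 (A : List ℕ) : Prop := pt L (B2 ++ A) = pt L B2

theorem fix_small : ∀ c ∈ [2, 3, 4, 5, 6, 7, 8, 9], Fix2 L [c] := by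
  intro c hc
  have hr : 2 ≤ c ∧ c < 10 := by
    revert c; decide
  have h0 : Commute (L.v 0) (L.v c) :=
    a_comm L c hr.1 hr.2
  have hk := comm_swap L (k_comm L (l := c) (by omega) hr.2)
  have hl := comm_swap L (l_comm L (l := c) (by omega))
  show pt L [11, 10, 0, 11, c] = pt L [11, 10, 0, 11]
  calc pt L [11, 10, 0, 11, c] = pt L [11, 10, 0, c, 11] := pt_swap L [11, 10, 0] hk []
    _ = pt L [11, 10, c, 0, 11] := pt_swap L [11, 10] (comm_swap L h0) [11]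
    _ = pt L [11, c, 10, 0, 11] := pt_swap L [11] hl [0, 11]
    _ = pt L [c, 11, 10, 0, 11] := pt_swap L [] hk [10, 0, 11]
    _ = pt L [11, 10, 0, 11] := pt_drop L (U := [c]) (by simpa using (show c < 11 by omega)) _

theorem fix_l : Fix2 L [10] := by
  have hla := comm_swap L (l_comm L (l := 0) (by omega))
  show pt L [11, 10, 0, 11, 10] = pt L [11, 10, 0, 11]
  calc pt L [11, 10, 0, 11, 10] = pt L [11, 0, 10, 11, 10] := pt_swap L [11] hla [11, 10]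
    _ = pt L [11, 0, 11, 10, 11] := (pt_swap L [11, 0] (braid3 L (t := 10) (Or.inr rfl)) []).symm
    _ = pt L [0, 11, 0, 10, 11] := pt_swap L [] (braid3 L (t := 0) (Or.inl rfl)) [10, 11]
    _ = pt L [11, 0, 10, 11] := pt_drop L (U := [0]) (by decide) _
    _ = pt L [11, 10, 0, 11] := (pt_swap L [11] hla [11]).symm

theorem fix_a : Fix2 L [0] := by
  have hla := comm_swap L (l_comm L (l := 0) (by omega))
  show pt L [11, 10, 0, 11, 0] = pt L [11, 10, 0, 11]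
  calc pt L [11, 10, 0, 11, 0] = pt L [11, 10, 11, 0, 11] :=
        (pt_swap L [11, 10] (braid3 L (t := 0) (Or.inl rfl)) []).symm
    _ = pt L [10, 11, 10, 0, 11] := pt_swap L [] (braid3 L (t := 10) (Or.inr rfl)) [0, 11]
    _ = pt L [11, 10, 0, 11] := pt_drop L (U := [10]) (by decide) _

theorem fix_s : Fix2 L sW := by
  let c : List ℕ := [1, 2, 3, 4, 8, 3, 2, 1]
  let c8 : List ℕ := [1, 2, 3, 4, 5, 8, 3, 2, 1, 4, 3, 2, 8, 3, 4, 5]
  have hc : C9w c := by decide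
  have hc8 : C9w c8 := by decide
  have a : Edge L ([11, 10, 0] ++ c) (B2 ++ c) := (E10 L).move (c9_spec hc)
  have b : Edge L ([11, 0] ++ c8) ([11, 0] ++ c8) := (E8 L).move (c9_spec hc8)
  have q1 : pt L ([11] ++ (([10, 0] ++ c) ++ [0])) = pt L ([11] ++ ([0] ++ c8)) := eq1 L (by decide +kernel)
  have q2 : pt L ([11] ++ (([0] ++ c8) ++ [0])) = pt L ([11] ++ ([10, 0] ++ c)) := eq1 L (by decide +kernel)
  have b' : Edge L ([11, 10, 0] ++ c ++ [0]) ([11, 0] ++ c8) := b.congr q1 rfl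
  have d : Edge L (B2 ++ c ++ [0]) ([11, 0] ++ c8 ++ [0]) := a.symm.braid (Or.inl rfl) b'
  have d2 : Edge L (B2 ++ c ++ [0]) ([11, 10, 0] ++ c) := d.congr rfl q2
  have e : pt L (B2 ++ c ++ [0]) = pt L (B2 ++ c) := Eq.trans (Eq.symm (Edge.symm d2)) a
  show pt L (B2 ++ c ++ [0] ++ c.reverse) = pt L B2
  rw [pt_congr L e c.reverse]
  refine pt_eval L ?_
  simp only [evalWord_append, (eval_rev L), mul_inv_cancel_right]

theorem fix_gens2 : ∀ A ∈ gens2, Fix2 L A := by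
  intro A hA
  simp only [gens2, List.mem_cons, List.not_mem_nil, or_false] at hA
  rcases hA with rfl | rfl | rfl | rfl | rfl | rfl | rfl | rfl | rfl | rfl
  exacts [fix_a L, fix_small L 2 (by decide), fix_small L 3 (by decide), fix_small L 4 (by decide),
    fix_small L 5 (by decide), fix_small L 6 (by decide), fix_small L 7 (by decide), fix_small L 8 (by decide),
    fix_small L 9 (by decide), fix_s L]

theorem fix_spell : ∀ ix : List ℕ, Fix2 L (spell ix)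
  | [] => by show pt L (B2 ++ []) = _; rw [List.append_nil]
  | i :: ix => by
    show pt L (B2 ++ (gens2.getD i [] ++ spell ix)) = _
    refine pt_fix_append ?_ (fix_spell ix)
    rcases Nat.lt_or_ge i gens2.length with h | h
    · rw [List.getD_eq_getElem _ _ h]; exact fix_gens2 L _ (List.getElem_mem h)
    · rw [List.getD_eq_default _ _ h, List.append_nil]

theorem psi_B2 : psi L (pt L B2) = aX := by
  refine Exist24.cd_inj ?_
  rw [psi_pt (by decide)]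
  exact base_codes.2.trans (Exist24.cd_aX H).symm

/-- The stabiliser of the point fixes the second coset. -/
theorem hfix2 : ∀ p : G2, sig H p (psi L (pt L B2)) = psi L (pt L B2) → L.h p • pt L B2 = pt L B2 := by
  intro p hp
  rw [psi_B2] at hp
  let S : Subgroup G2 := (MulAction.stabilizer Γ (pt L B2)).comap (L.h)
  show p ∈ S
  have hword : ∀ {W : List ℕ}, Fix2 L W → (hW : ∀ l ∈ W, l < 11) →
      (((-1 : ℤˣ) ^ W.length, evalWord Fi23.pres.val (strip W)) : G2) ∈ S := by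
    intro W hF hW
    show L.h _ • pt L B2 = pt L B2
    rw [← word_h L hW]
    have h : pt L (B2 ++ W) = pt L B2 := hF
    rw [pt_append] at h
    conv_lhs => rw [← h]
    rw [smul_inv_smul]
  have hel : neg' 1 ∈ S := by
    have := hword (fix_l L) (by decide)
    exact this
  have hone : ∀ {g : Fi23.pres.Gp} {u : ℤˣ}, ((u, g) : G2) ∈ S → ∀ u' : ℤˣ, ((u', g) : G2) ∈ S := by
    intro g u h u'
    by_cases e : u' = u
    · exact e ▸ h
    · have : ((u', g) : G2) = neg' 1 * (u, g) := by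
        ext
        · rcases Int.units_eq_one_or u with rfl | rfl <;> rcases Int.units_eq_one_or u' with rfl | rfl <;>
            simp_all [neg']
        · simp [neg']
      exact this ▸ mul_mem hel h
  set gv : Fi23.pres.Gp := (evalWord Fi23.pres.val v2)⁻¹ with hgv
  have hgens : ∀ x ∈ Fi23.A.sel, ((1 : ℤˣ), gv * Fi23.pres.val x * gv⁻¹) ∈ S := by
    intro x hx
    rw [← table2_ok.2.1, List.mem_map] at hx
    obtain ⟨e, he, rfl⟩ := hx
    have hu := List.all_eq_true.mp table2_ok.1 e he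
    have hlt : ∀ l ∈ (spell e.2).reverse ++ [2] ++ spell e.2, l < 10 := by
      simp only [Exist24.uStep, Bool.and_eq_true, List.all_eq_true] at hu
      exact fun l hl => Nat.le_of_ble_eq_true (hu.1.1 l hl)
    have hc2 : Fix2 L [2] := fix_small L 2 (by decide)
    have h := hword (pt_fix_append (pt_fix_append (pt_fix_reverse (fix_spell L e.2)) hc2) (fix_spell L e.2))
      fun l hl => by have := hlt l hl; omega
    have hs : ∀ {W : List ℕ}, (∀ l ∈ W, l < 10) → strip W = W := fun {W} hW => by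
      rw [strip, List.filter_eq_self]; exact fun l hl => Nat.ble_eq.mpr (hW l hl)
    rw [hs hlt, Exist24.word_ext hu] at h
    have := hone h 1
    rw [evalWord_append, evalWord_append, Fi23.inv_word, show evalWord Fi23.pres.val [e.1] = Fi23.pres.val e.1 from mul_one _] at this
    rw [hgv, inv_inv]
    exact this
  obtain ⟨u, g⟩ := p
  refine hone (u := 1) ?_ u
  have hcomm : Commute g (Fi23.pres.val 0) := by
    rw [Fi23.Tri.letter_point 0 (by omega), ← Fi23.Tri.fix_iff]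
    have h := hp
    rw [Exist24.aX, Exist24.sig_pt, Sum.inr.injEq, Sum.inl.injEq] at h
    exact h
  have hbase : act gv Fi23.rep.base = Fi23.Tri.pt (Fi23.Tri.pl 0) := by
    apply Fin.ext
    rw [hgv, map_inv, Fi23.Tri.run_eq table2_ok.2.2.2, Fi23.Tri.pt_pl (by omega)]
    exact table2_ok.2.2.1
  have hmem : gv⁻¹ * g * gv ∈ Fi23.H := by
    rw [Fi23.Tri.mem_H_iff, map_mul, map_mul, Equiv.Perm.mul_apply, Equiv.Perm.mul_apply, hbase, map_inv,
      Equiv.Perm.inv_eq_iff_eq, hbase]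
    exact (Fi23.Tri.fix_iff g _).mpr (by rw [← Fi23.Tri.letter_point 0 (by omega)]; exact hcomm)
  have hle : Fi23.H ≤ S.comap ((MonoidHom.inr ℤˣ Fi23.pres.Gp).comp (MulAut.conj gv).toMonoidHom) := by
    rw [Fi23.H, Fi23.pres.sub_eq_closure, Subgroup.closure_le]
    rintro _ hy
    obtain ⟨x, hx, rfl⟩ := List.mem_map.mp hy
    exact hgens x hx
  have h := hle hmem
  have e : (MulAut.conj gv) (gv⁻¹ * g * gv) = g := by
    rw [MulAut.conj_apply]; group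
  show ((1 : ℤˣ), g) ∈ S
  rw [← e]
  exact h

/-- Equality of cosets next to the coset of `k`. -/
theorem eq2 {U V : List ℕ} (h : (U.all (fun l => Nat.blt l 11) && V.all (fun l => Nat.blt l 11) &&
    Nat.beq (runC (B2 ++ U) 0) (runC (B2 ++ V) 0)) = true) : pt L (B2 ++ U) = pt L (B2 ++ V) := by
  simp only [Bool.and_eq_true, List.all_eq_true] at h
  exact pt_eq_of_run (by decide) (hfix2 L) (fun l hl => Nat.le_of_ble_eq_true (h.1.1 l hl))
    (fun l hl => Nat.le_of_ble_eq_true (h.1.2 l hl)) (Nat.eq_of_beq_eq_true h.2)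


theorem E12 : Edge L ([11] ++ ([0,1,2,3,4,5,8,3,4,9,8,3,2,1,10] ++ [0])) ([11] ++ ([0,1,2,3,4,5,8,3,2,4,3,8,9,8,3,2,1,4,3,5,4,8,3,10] ++ [0])) := by
  have h1 : Edge L ([11] ++ [0,1,2,3,4,5,8,3,4,9,8,3,2,1,10]) (B2 ++ [1,2,3,4,5,8,3,4,9,8,3,2,1]) := (((E10 L)).move (c9_spec (c := [1,2,3,4,5,8,3,4,9,8,3,2,1]) (by decide))).congr (eq1 L (by decide +kernel)) (eq2 L (by decide +kernel))
  have h2 : Edge L (B2 ++ ([1,2,3,4,5,8,3,4,9,8,3,2,1] ++ [0])) ([11] ++ [0,1,2,3,4,5,8,3,2,4,3,8,9,8,3,2,1,4,3,5,4,8,3,10]) := (((E10 L).symm).move (c9_spec (c := [1,2,3,4,5,8,3,2,4,3,8,9,8,3,2,1,4,3,5,4,8,3]) (by decide))).congr (eq2 L (by decide +kernel)) (eq1 L (by decide +kernel))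
  exact Edge.braid (Or.inl rfl) h1 h2

theorem chain {P acc C mid D : List ℕ} (h : pt L (P ++ acc) = pt L C) (e : Edge L (C ++ mid) D) :
    pt L (P ++ (acc ++ mid ++ [11])) = pt L D := by
  rw [← List.append_assoc, ← List.append_assoc, pt_congr L (pt_congr L h mid) [11]]
  exact e

theorem loop_eq : ∃ C : List ℕ, pt L ([11] ++ startW ++ zW) = pt L ([11] ++ C) ∧ C = [0,1,2,3,4,5,6,7,8,3,2,1,0,4,3,5,9,8,3,2,1,0,4,3,2,1,5,4,6,5,8,3,2,4,3,8,9,8,3,2,1,4,3,2,5,4,6,5,7,8,10,10,3,4,5,6,7,3,8,9] := by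
  have s0 : pt L ([11] ++ startW ++ []) = pt L ([11] ++ startW) := by rw [List.append_nil]
  have e0 : Edge L ([11] ++ (startW ++ [3,2,1,0])) ([11] ++ [0,1,2,3,4,5,8,3,2,1,4,3,8,9,8,3,2,1]) :=
    (((E8 L)).move (c9_spec (c := [1,2,3,4,5,8,3,2,1,4,3,8,9,8,3,2,1]) (by decide))).congr (eq1 L (by decide +kernel)) (eq1 L (by decide +kernel))
  have s1 := chain L s0 (C := ([11] ++ startW)) (mid := [3,2,1,0]) (by simpa [List.append_assoc] using e0)
  have e1 : Edge L ([11] ++ ([0,1,2,3,4,5,8,3,2,1,4,3,8,9,8,3,2,1] ++ [10,3,4,5,6,7,3,8,9,3,2,1,0])) (B2 ++ [1,2,3,4,5,6,7,8,3,2,4,3,8,9,8,3,2,4]) :=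
    (((E10 L)).move (c9_spec (c := [1,2,3,4,5,6,7,8,3,2,4,3,8,9,8,3,2,4]) (by decide))).congr (eq1 L (by decide +kernel)) (eq2 L (by decide +kernel))
  have s2 := chain L s1 (C := ([11] ++ [0,1,2,3,4,5,8,3,2,1,4,3,8,9,8,3,2,1])) (mid := [10,3,4,5,6,7,3,8,9,3,2,1,0]) (by simpa [List.append_assoc] using e1)
  have e2 : Edge L (B2 ++ ([1,2,3,4,5,6,7,8,3,2,4,3,8,9,8,3,2,4] ++ [10,3,4,5,6,7,3,8,9,3,2,1,0])) ([11] ++ [0,1,2,3,4,5,6,7,8,3,2,4,3,8,9,8,3,2,1,4,5,6,10]) :=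
    (((E10 L).symm).move (c9_spec (c := [1,2,3,4,5,6,7,8,3,2,4,3,8,9,8,3,2,1,4,5,6]) (by decide))).congr (eq2 L (by decide +kernel)) (eq1 L (by decide +kernel))
  have s3 := chain L s2 (C := (B2 ++ [1,2,3,4,5,6,7,8,3,2,4,3,8,9,8,3,2,4])) (mid := [10,3,4,5,6,7,3,8,9,3,2,1,0]) (by simpa [List.append_assoc] using e2)
  have e3 : Edge L ([11] ++ ([0,1,2,3,4,5,6,7,8,3,2,4,3,8,9,8,3,2,1,4,5,6,10] ++ [10,3,4,5,6,7,3,8,9,3,2,1,0])) (B2 ++ [1,2,3,4,5,6,7,8,3,2,1,4,3,2,5,4,6,8,9,8,3,2,4,5,6]) :=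
    (((E10 L)).move (c9_spec (c := [1,2,3,4,5,6,7,8,3,2,1,4,3,2,5,4,6,8,9,8,3,2,4,5,6]) (by decide))).congr (eq1 L (by decide +kernel)) (eq2 L (by decide +kernel))
  have s4 := chain L s3 (C := ([11] ++ [0,1,2,3,4,5,6,7,8,3,2,4,3,8,9,8,3,2,1,4,5,6,10])) (mid := [10,3,4,5,6,7,3,8,9,3,2,1,0]) (by simpa [List.append_assoc] using e3)
  have e4 : Edge L (B2 ++ ([1,2,3,4,5,6,7,8,3,2,1,4,3,2,5,4,6,8,9,8,3,2,4,5,6] ++ [10,3,4,5,6,7,3,8,9,3,2,1,0])) ([11] ++ [0,1,2,3,4,5,6,7,8,3,2,1,0,4,5,6,9,8,3,2,1,4,3,2,5,4,3,6,7,8,3,4,5]) :=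
    (((E10 L).symm).move (c9_spec (c := [1,2,3,4,5,6,7,8,3,2,1,4,5,6,9,8,3,2,1,4,3,2,5,4,3,6,5,8,3,4,5]) (by decide))).congr (eq2 L (by decide +kernel)) (eq1 L (by decide +kernel))
  have s5 := chain L s4 (C := (B2 ++ [1,2,3,4,5,6,7,8,3,2,1,4,3,2,5,4,6,8,9,8,3,2,4,5,6])) (mid := [10,3,4,5,6,7,3,8,9,3,2,1,0]) (by simpa [List.append_assoc] using e4)
  have e5 : Edge L ([11] ++ ([0,1,2,3,4,5,6,7,8,3,2,1,0,4,5,6,9,8,3,2,1,4,3,2,5,4,3,6,7,8,3,4,5] ++ [10,3,4,5,6,7,3,8,9,3,2,1,0])) ([11] ++ [0,1,2,3,4,5,6,7,8,3,2,1,0,4,5,6,9,8,3,2,1,0,4,3,2,1,5,4,3,8,3,2,4,3,9]) :=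
    (((E12 L)).move (c9_spec (c := [3,2,1,4,3,2,6,5,4,3,7,6,8,3,2,4,3,5,4,6]) (by decide))).congr (eq1 L (by decide +kernel)) (eq1 L (by decide +kernel))
  have s6 := chain L s5 (C := ([11] ++ [0,1,2,3,4,5,6,7,8,3,2,1,0,4,5,6,9,8,3,2,1,4,3,2,5,4,3,6,7,8,3,4,5])) (mid := [10,3,4,5,6,7,3,8,9,3,2,1,0]) (by simpa [List.append_assoc] using e5)
  have e6 : Edge L ([11] ++ ([0,1,2,3,4,5,6,7,8,3,2,1,0,4,5,6,9,8,3,2,1,0,4,3,2,1,5,4,3,8,3,2,4,3,9] ++ [10,3,4,5,6,7,3,8,9,3,2,1,0])) ([11] ++ [0,1,2,3,4,5,6,7,8,3,2,1,4,5,6,9,8,3,2,1,0,4,3,2,1,5,4,3,6,7,8,3,2,1,0]) :=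
    (((E12 L)).move (c9_spec (c := [3,6,5,4,3,7,6,5,8,3,2,1,9,8,3,2,4,3,5,4,6,7]) (by decide))).congr (eq1 L (by decide +kernel)) (eq1 L (by decide +kernel))
  have s7 := chain L s6 (C := ([11] ++ [0,1,2,3,4,5,6,7,8,3,2,1,0,4,5,6,9,8,3,2,1,0,4,3,2,1,5,4,3,8,3,2,4,3,9])) (mid := [10,3,4,5,6,7,3,8,9,3,2,1,0]) (by simpa [List.append_assoc] using e6)
  have e7 : Edge L ([11] ++ ([0,1,2,3,4,5,6,7,8,3,2,1,4,5,6,9,8,3,2,1,0,4,3,2,1,5,4,3,6,7,8,3,2,1,0] ++ [10,3,4,5,6,7,3,8,9,3,2,1,0])) ([11] ++ [0,1,2,3,4,5,6,8,3,2,1,4,3,5,8,9,8,3,2,1,0,4,3,2,8,3,4,5,6,9]) :=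
    (((E12 L)).move (c9_spec (c := [3,4,5,6,5,4,3,2,1,8,3,2,4,3,5,4,8,9,8]) (by decide))).congr (eq1 L (by decide +kernel)) (eq1 L (by decide +kernel))
  have s8 := chain L s7 (C := ([11] ++ [0,1,2,3,4,5,6,7,8,3,2,1,4,5,6,9,8,3,2,1,0,4,3,2,1,5,4,3,6,7,8,3,2,1,0])) (mid := [10,3,4,5,6,7,3,8,9,3,2,1,0]) (by simpa [List.append_assoc] using e7)
  have e8 : Edge L ([11] ++ ([0,1,2,3,4,5,6,8,3,2,1,4,3,5,8,9,8,3,2,1,0,4,3,2,8,3,4,5,6,9] ++ [10,3,4,5,6,7,3,8,9,3,2,1,0])) ([11] ++ [0,1,2,3,4,5,6,7,8,3,2,1,0,4,3,5,8,9,8,3,2,1,0,4,3,2,5,4,8,3,2,1,4,9,8,3]) :=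
    (((E12 L)).move (c9_spec (c := [3,2,4,3,6,5,4,3,2,7,8,3,2,1,4,3,8,9,8,3,4]) (by decide))).congr (eq1 L (by decide +kernel)) (eq1 L (by decide +kernel))
  have s9 := chain L s8 (C := ([11] ++ [0,1,2,3,4,5,6,8,3,2,1,4,3,5,8,9,8,3,2,1,0,4,3,2,8,3,4,5,6,9])) (mid := [10,3,4,5,6,7,3,8,9,3,2,1,0]) (by simpa [List.append_assoc] using e8)
  have e9 : Edge L ([11] ++ ([0,1,2,3,4,5,6,7,8,3,2,1,0,4,3,5,8,9,8,3,2,1,0,4,3,2,5,4,8,3,2,1,4,9,8,3] ++ [10,3,4,5,6,7,3,8,9,3,2,1,0])) (B2 ++ [1,2,3,4,5,6,7,8,3,2,1,4,3,5,8,9,8,3,2,1,4,3,2,5,4,6,8]) :=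
    (((E10 L)).move (c9_spec (c := [1,2,3,4,5,6,7,8,3,2,1,4,3,5,8,9,8,3,2,1,4,3,2,5,4,6,8]) (by decide))).congr (eq1 L (by decide +kernel)) (eq2 L (by decide +kernel))
  have s10 := chain L s9 (C := ([11] ++ [0,1,2,3,4,5,6,7,8,3,2,1,0,4,3,5,8,9,8,3,2,1,0,4,3,2,5,4,8,3,2,1,4,9,8,3])) (mid := [10,3,4,5,6,7,3,8,9,3,2,1,0]) (by simpa [List.append_assoc] using e9)
  have e10 : Edge L (B2 ++ ([1,2,3,4,5,6,7,8,3,2,1,4,3,5,8,9,8,3,2,1,4,3,2,5,4,6,8] ++ [10,3,4,5,6,7,3,8,9,3,2,1,0])) ([11] ++ [0,1,2,3,4,5,6,7,8,3,2,1,0,4,3,2,9,8,3,2,4,3,5,4,6,5,7,8,3,2]) :=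
    (((E10 L).symm).move (c9_spec (c := [1,2,3,4,5,6,7,8,3,2,1,4,3,2,5,4,9,8,3,2,4,3,5,4,6,5,7,6]) (by decide))).congr (eq2 L (by decide +kernel)) (eq1 L (by decide +kernel))
  have s11 := chain L s10 (C := (B2 ++ [1,2,3,4,5,6,7,8,3,2,1,4,3,5,8,9,8,3,2,1,4,3,2,5,4,6,8])) (mid := [10,3,4,5,6,7,3,8,9,3,2,1,0]) (by simpa [List.append_assoc] using e10)
  have e11 : Edge L ([11] ++ ([0,1,2,3,4,5,6,7,8,3,2,1,0,4,3,2,9,8,3,2,4,3,5,4,6,5,7,8,3,2] ++ [10,3,4,5,6,7,3,8,9,3,2,1,0])) ([11] ++ [0,1,2,3,4,5,6,7,8,3,2,1,0,4,5,6,9,8,3,2,1,0,4,3,2,1,5,4,3,6,8,3,4,5]) :=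
    (((E12 L)).move (c9_spec (c := [3,2,1,4,3,2,6,5,4,3,2,7,6,5,4,8,3,2,4,3,5,4,9]) (by decide))).congr (eq1 L (by decide +kernel)) (eq1 L (by decide +kernel))
  have s12 := chain L s11 (C := ([11] ++ [0,1,2,3,4,5,6,7,8,3,2,1,0,4,3,2,9,8,3,2,4,3,5,4,6,5,7,8,3,2])) (mid := [10,3,4,5,6,7,3,8,9,3,2,1,0]) (by simpa [List.append_assoc] using e11)
  have e12 : Edge L ([11] ++ ([0,1,2,3,4,5,6,7,8,3,2,1,0,4,5,6,9,8,3,2,1,0,4,3,2,1,5,4,3,6,8,3,4,5] ++ [10,3,4,5,6,7,3,8,9,3,2,1,0])) ([11] ++ [0,1,2,3,4,5,6,7,8,3,2,1,0,4,3,5,4,6,9,8,3,2,1,0,4,3,2,1,8,3,2,4,3,5,4,6,8,10]) :=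
    (((E12 L)).move (c9_spec (c := [3,2,1,4,3,2,6,5,4,3,7,6,8,3,2,1,4,3,2,5,4]) (by decide))).congr (eq1 L (by decide +kernel)) (eq1 L (by decide +kernel))
  have s13 := chain L s12 (C := ([11] ++ [0,1,2,3,4,5,6,7,8,3,2,1,0,4,5,6,9,8,3,2,1,0,4,3,2,1,5,4,3,6,8,3,4,5])) (mid := [10,3,4,5,6,7,3,8,9,3,2,1,0]) (by simpa [List.append_assoc] using e12)
  have e13 : Edge L ([11] ++ ([0,1,2,3,4,5,6,7,8,3,2,1,0,4,3,5,4,6,9,8,3,2,1,0,4,3,2,1,8,3,2,4,3,5,4,6,8,10] ++ [10,3,4,5,6,7,3,8,9,3,2,1,0])) ([11] ++ [0,1,2,3,4,5,6,7,8,3,2,4,3,5,4,9,8,3,2,1,0,4,3,2,1,5,4,3,2,6,5,4,3,8,3,2,1,4,5,9,10]) :=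
    (((E12 L)).move (c9_spec (c := [3,4,6,5,4,3,7,6,8,3,2,1,4,3,2,5,4,3,8,9,8,3,2,1,4,5]) (by decide))).congr (eq1 L (by decide +kernel)) (eq1 L (by decide +kernel))
  have s14 := chain L s13 (C := ([11] ++ [0,1,2,3,4,5,6,7,8,3,2,1,0,4,3,5,4,6,9,8,3,2,1,0,4,3,2,1,8,3,2,4,3,5,4,6,8,10])) (mid := [10,3,4,5,6,7,3,8,9,3,2,1,0]) (by simpa [List.append_assoc] using e13)
  have e14 : Edge L ([11] ++ ([0,1,2,3,4,5,6,7,8,3,2,4,3,5,4,9,8,3,2,1,0,4,3,2,1,5,4,3,2,6,5,4,3,8,3,2,1,4,5,9,10] ++ [10,3,4,5,6,7,3,8,9,3,2,1,0])) ([11] ++ [0,1,2,3,4,5,6,7,8,3,2,1,0,4,3,5,6,9,8,3,2,1,0,4,3,2,1,5,4,3,6,5,8,3,2,1,4,3,2,8,9,8,3,2,4,5,10]) :=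
    (((E12 L)).move (c9_spec (c := [3,2,4,5,6,5,4,7,6,8,3,2,1,4,3,2,5,4,3,8,3,9,8,3,2,1,4,3,2,8,3,4,5,9]) (by decide))).congr (eq1 L (by decide +kernel)) (eq1 L (by decide +kernel))
  have s15 := chain L s14 (C := ([11] ++ [0,1,2,3,4,5,6,7,8,3,2,4,3,5,4,9,8,3,2,1,0,4,3,2,1,5,4,3,2,6,5,4,3,8,3,2,1,4,5,9,10])) (mid := [10,3,4,5,6,7,3,8,9,3,2,1,0]) (by simpa [List.append_assoc] using e14)
  have e15 : Edge L ([11] ++ ([0,1,2,3,4,5,6,7,8,3,2,1,0,4,3,5,6,9,8,3,2,1,0,4,3,2,1,5,4,3,6,5,8,3,2,1,4,3,2,8,9,8,3,2,4,5,10] ++ [10,3,4,5,6,7,3,8,9,3,2,1,0])) ([11] ++ [0,1,2,3,4,5,6,7,8,3,2,1,4,3,2,5,4,6,9,8,3,2,1,0,4,3,2,1,5,4,6,5,8,3,2,1,0,4,3,8,9,8,3,2,1,4,3,5,6,7,8]) :=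
    (((E12 L)).move (c9_spec (c := [3,2,4,3,5,6,5,4,3,2,1,7,6,5,4,8,3,2,1,4,3,2,5,4,3,8,9,8,3,2,1,4,3,5,6,7,8,9]) (by decide))).congr (eq1 L (by decide +kernel)) (eq1 L (by decide +kernel))
  have s16 := chain L s15 (C := ([11] ++ [0,1,2,3,4,5,6,7,8,3,2,1,0,4,3,5,6,9,8,3,2,1,0,4,3,2,1,5,4,3,6,5,8,3,2,1,4,3,2,8,9,8,3,2,4,5,10])) (mid := [10,3,4,5,6,7,3,8,9,3,2,1,0]) (by simpa [List.append_assoc] using e15)
  have e16 : Edge L ([11] ++ ([0,1,2,3,4,5,6,7,8,3,2,1,4,3,2,5,4,6,9,8,3,2,1,0,4,3,2,1,5,4,6,5,8,3,2,1,0,4,3,8,9,8,3,2,1,4,3,5,6,7,8] ++ [10,3,4,5,6,7,3,8,9,3,2,1,0])) ([11] ++ [0,1,2,3,4,5,6,7,8,3,2,1,0,4,3,5,9,8,3,2,1,0,4,3,2,1,5,4,6,5,8,3,2,4,3,8,9,8,3,2,1,4,3,2,5,4,6,5,7,8,10]) :=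
    (((E12 L)).move (c9_spec (c := [3,2,4,5,6,5,4,3,7,6,8,3,2,1,4,3,2,5,4,3,8,3,4,9,8,3,2,1,4,3,2,5,4,6,5,7,8,9]) (by decide))).congr (eq1 L (by decide +kernel)) (eq1 L (by decide +kernel))
  have s17 := chain L s16 (C := ([11] ++ [0,1,2,3,4,5,6,7,8,3,2,1,4,3,2,5,4,6,9,8,3,2,1,0,4,3,2,1,5,4,6,5,8,3,2,1,0,4,3,8,9,8,3,2,1,4,3,5,6,7,8])) (mid := [10,3,4,5,6,7,3,8,9,3,2,1,0]) (by simpa [List.append_assoc] using e16)
  refine ⟨_, ?_, rfl⟩
  have h := pt_congr L s17 [10, 3, 4, 5, 6, 7, 3, 8, 9]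
  refine Eq.trans ?_ (h.trans ?_)
  · exact pt_eval L (congrArg (evalWord L.v) (by decide +kernel))
  · exact pt_eval L (congrArg (evalWord L.v) (by decide +kernel))

theorem loop_run : runC ([11] ++ [0,1,2,3,4,5,6,7,8,3,2,1,0,4,3,5,9,8,3,2,1,0,4,3,2,1,5,4,6,5,8,3,2,4,3,8,9,8,3,2,1,4,3,2,5,4,6,5,7,8,10,10,3,4,5,6,7,3,8,9]) 0 = runC ([11] ++ startW) 0 := by
  decide +kernel

include L in
/-- The closing word is trivial. -/
theorem z_trivial : evalWord L.v zW = 1 := by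
  obtain ⟨C, hC, rfl⟩ := loop_eq L
  have h2 := hC.trans (eq1 L (V := startW) (by decide +kernel))
  rw [pt, pt, QuotientGroup.eq, inv_inv, evalWord_append _ ([11] ++ startW)] at h2
  obtain ⟨p, hp⟩ := h2
  have h3 : L.pr (L.h p) = 1 := by
    rw [hp, map_mul, map_mul, map_inv, pr_word L (W := zW) (by decide +kernel),
      show evalWord pres.val zW = 1 from pres.rel_val _ (by decide +kernel), mul_one, mul_inv_cancel]
  have hp1 : p = 1 := by
    apply Exist24.sig_injective H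
    rw [map_one, ← phi_jh, ← L.pr_h, h3, map_one]
  rw [hp1, map_one] at hp
  have := hp.symm
  rwa [mul_inv_eq_one, mul_eq_left] at this

end Cfsg.Agent.Fi24Mult77
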