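import Cfsg.Agent.SporB.Fi24.Index
import Cfsg.Agent.Fi24Mult77.Defs
import Cfsg.Agent.Fi24Mult77.Walk

/-!
Tools for lifting the twelve letters to an extension of the presented `Fi24`.
-/

set_option autoImplicit false
set_option maxRecDepth 100000
set_option linter.unusedSectionVars false

namespace Cfsg.Agent.Fi24Mult77
open Cfsg.Agent.CosetEnum
open Cfsg.Agent.Exist24 (X G2 sig neg' el tP Checked)
open Cfsg.Agent.CosetEnum.Fi24 (G pres phi phi_val phi_word phi_jh jh strip rel_cover triv triv_spec kWords comm4 twelve runC)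

variable (H : Checked)

theorem jh_injective : Function.Injective (jh H) := fun p q e =>
  Exist24.sig_injective H (by rw [← phi_jh, ← phi_jh, e])

theorem phi_mem (g : G) : phi H g ∈ Exist24.Gm H := by
  have hg : g ∈ Subgroup.closure (pres.val '' Set.Iio pres.gens.length) := pres.closure_val ▸ Subgroup.mem_top g
  induction hg using Subgroup.closure_induction with
  | mem x hx =>
    obtain ⟨l, hl, rfl⟩ := hx
    rw [phi_val H (show l < 12 from hl)]
    exact Fi24.mv_mem H l
  | one => rw [map_one]; exact one_mem _
  | mul a b _ _ ha hb => rw [map_mul]; exact mul_mem ha hb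
  | inv a _ ha => rw [map_inv]; exact inv_mem ha

/-- The centraliser of `l`. -/
theorem cent_l {g : G} (hg : Commute g (pres.val 10)) : ∃ p, jh H p = g := by
  have h1 := Exist24.tP_conj H (phi_mem H g) (Sum.inl ())
  have h2 : phi H g * el H * (phi H g)⁻¹ = el H := by
    have := congrArg (phi H) hg.eq
    rw [map_mul, map_mul, phi_val H (by omega), Fi24.mv, if_neg (by omega), if_pos rfl] at this
    rw [this, mul_inv_cancel_right]
  have hbase : phi H g (Sum.inl ()) = Sum.inl () := Exist24.tP_injective H (by rw [← h1]; exact h2)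
  have e : Fi24.psi H ((g : G) : Fi24.Cos H) = Fi24.psi H (((1 : G)) : Fi24.Cos H) := by
    show phi H g _ = phi H 1 _
    rw [hbase, map_one]; rfl
  have := QuotientGroup.eq.mp ((Fi24.psi_bijective H).1 e)
  obtain ⟨p, hp⟩ : g⁻¹ * 1 ∈ Fi24.Hs H := this
  exact ⟨p⁻¹, by rw [map_inv, hp, mul_one, inv_inv]⟩

include H in
/-- Equality of words decided on twelve points. -/
theorem eq_G {U V : List ℕ} (hlt : (U ++ V.reverse).all (fun l => Nat.blt l 12) = true)
    (h : twelve.all (fun i => Nat.beq (runC (U ++ V.reverse) i) i) = true) :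
    evalWord pres.val U = evalWord pres.val V := by
  have e : phi H (evalWord pres.val (U ++ V.reverse)) = phi H 1 := by
    rw [map_one, phi_word H fun l hl => Nat.le_of_ble_eq_true (List.all_eq_true.mp hlt l hl)]
    exact Fi24.model_of_twelve H _ h
  have e2 := Fi24.phi_injective H e
  rwa [evalWord_append, Fi24.eval_reverse, mul_inv_eq_one] at e2

theorem letters_eq {A : Type} [CommGroup A] (f : G →* A) (l : ℕ) (hl : l < 12) : f (pres.val l) = f (pres.val 10) := by
  have step : ∀ a b, [a, b, a, b, a, b] ∈ pres.relWords → f (pres.val a) = f (pres.val b) := by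
    intro a b h
    have e := congrArg f (pres.rel_val _ h)
    have ha := congrArg f (Fi24.val_sq a)
    have hb := congrArg f (Fi24.val_sq b)
    simp only [evalWord, map_mul, map_one, mul_one] at e ha hb
    have : f (pres.val a) * f (pres.val b) = 1 := by
      calc f (pres.val a) * f (pres.val b)
          = (f (pres.val a) * f (pres.val a)) * (f (pres.val b) * f (pres.val b)) *
              (f (pres.val a) * f (pres.val b)) := by rw [ha, hb, one_mul, one_mul]
        _ = _ := by ac_rfl
        _ = 1 := e
    rw [eq_inv_of_mul_eq_one_left this, inv_eq_of_mul_eq_one_right hb]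
  have e : ∀ a b, [a, b, a, b, a, b] ∈ pres.relWords → _ := step
  have h11 := e 10 11 (by decide +kernel)
  have h0 := e 11 0 (by decide +kernel)
  have h1 := e 0 1 (by decide +kernel)
  have h2 := e 1 2 (by decide +kernel)
  have h3 := e 2 3 (by decide +kernel)
  have h4 := e 3 4 (by decide +kernel)
  have h8 := e 3 8 (by decide +kernel)
  have h5 := e 4 5 (by decide +kernel)
  have h6 := e 5 6 (by decide +kernel)
  have h7 := e 6 7 (by decide +kernel)
  have h9 := e 8 9 (by decide +kernel)
  interval_cases l <;> simp_all

/-- A letter times `l` is even. -/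
theorem pair_mem {l : ℕ} (hl : l < 12) : pres.val l * pres.val 10 ∈ commutator G := by
  rw [← Abelianization.ker_of G, MonoidHom.mem_ker, map_mul, letters_eq Abelianization.of l hl, ← map_mul,
    Fi24.val_sq, map_one]

theorem even_word : ∀ {W : List ℕ}, (∀ l ∈ W, l < 12) →
    evalWord pres.val W * pres.val 10 ^ W.length ∈ commutator G
  | [], _ => by simp [evalWord]
  | l :: W, h => by
    rw [← Abelianization.ker_of G, MonoidHom.mem_ker, List.length_cons, pow_succ', evalWord, map_mul, map_mul,
      map_mul, letters_eq Abelianization.of l (h l List.mem_cons_self), mul_mul_mul_comm, ← map_mul, Fi24.val_sq,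
      map_one, one_mul, ← map_mul, ← MonoidHom.mem_ker, Abelianization.ker_of G]
    exact even_word fun x hx => h x (List.mem_cons_of_mem _ hx)

theorem even_or_odd (g : G) : g ∈ commutator G ∨ g * pres.val 10 ∈ commutator G := by
  have hg : g ∈ Subgroup.closure (pres.val '' Set.Iio pres.gens.length) := pres.closure_val ▸ Subgroup.mem_top g
  simp only [← Abelianization.ker_of G, MonoidHom.mem_ker, map_mul]
  induction hg using Subgroup.closure_induction with
  | mem x hx =>
    obtain ⟨l, hl, rfl⟩ := hx
    right
    rw [letters_eq Abelianization.of l hl, ← map_mul, Fi24.val_sq, map_one]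
  | one => left; exact map_one _
  | mul a b _ _ ha hb =>
    have h2 : (Abelianization.of (pres.val 10) : Abelianization G) * Abelianization.of (pres.val 10) = 1 := by
      rw [← map_mul, Fi24.val_sq, map_one]
    rw [map_mul]
    rcases ha with ha | ha <;> rcases hb with hb | hb
    · left; rw [ha, hb, one_mul]
    · right; rw [ha, one_mul, hb]
    · right; rw [hb, mul_one, ha]
    · left
      rw [← mul_one (Abelianization.of a * Abelianization.of b), ← h2, mul_mul_mul_comm, ha, hb, one_mul]
      exact h2.symm
  | inv a _ ha =>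
    rcases ha with ha | ha
    · left; rw [map_inv, ha, inv_one]
    · right
      rw [map_inv, eq_inv_of_mul_eq_one_left ha, inv_inv, ← map_mul, Fi24.val_sq, map_one]

section Ext
variable {Γ : Type} [Group Γ] (e : Ext Γ)

theorem conj_congr_central (hc : ∀ a g, e.pr a = 1 → Commute a g) {x y : Γ} (h : e.pr x = e.pr y) (a : Γ) :
    x * a * x⁻¹ = y * a * y⁻¹ := by
  have hz : e.pr (y⁻¹ * x) = 1 := by rw [map_mul, map_inv, h, inv_mul_cancel]
  have hm := (hc _ a hz).eq
  calc x * a * x⁻¹ = y * ((y⁻¹ * x) * a) * x⁻¹ := by group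
    _ = y * (a * (y⁻¹ * x)) * x⁻¹ := by rw [hm]
    _ = y * a * y⁻¹ := by group

/-- The twelve lifts from a lift of `k`. -/
noncomputable def lifts (h : G2 →* Γ) (k : Γ) (l : ℕ) : Γ :=
  if l < 10 then h (neg' (Fi23.pres.val l)) else if l = 10 then e.lt else if l = 11 then k else 1

variable {e} {h : G2 →* Γ} (hh : ∀ p, e.pr (h p) = jh H p) (hel : h (neg' 1) = e.lt)

include hh in
/-- Two elements over the centraliser of `l` agree when their images do. -/
theorem h_inj {p q : G2} (he : e.pr (h p) = e.pr (h q)) : h p = h q := by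
  rw [hh, hh] at he; rw [jh_injective H he]

theorem lifts_h {k : Γ} {l : ℕ} (hl : l < 10) : lifts e h k l = h (neg' (Fi23.pres.val l)) := if_pos hl

theorem lifts_el {k : Γ} : lifts e h k 10 = e.lt := by rw [lifts, if_neg (by omega), if_pos rfl]

theorem lifts_k {k : Γ} : lifts e h k 11 = k := by rw [lifts, if_neg (by omega), if_neg (by omega), if_pos rfl]

include hh in
theorem pr_lifts {k : Γ} (hk : e.pr k = pres.val 11) {l : ℕ} (hl : l < 12) :
    e.pr (lifts e h k l) = pres.val l := by
  unfold lifts
  split_ifs with a b c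
  · rw [hh, Fi24.jh_gen H a]
  · subst b; exact e.lt_pr
  · subst c; exact hk
  · omega

include hel in
theorem lifts_word {k : Γ} : ∀ {W : List ℕ}, (∀ l ∈ W, l < 11) →
    evalWord (lifts e h k) W = h ((-1) ^ W.length, evalWord Fi23.pres.val (strip W))
  | [], _ => (map_one _).symm
  | l :: W, hW => by
    rw [evalWord, lifts_word (fun x hx => hW x (List.mem_cons_of_mem _ hx))]
    have hl := hW l List.mem_cons_self
    rcases Nat.lt_or_ge l 10 with h10 | h10
    · rw [lifts_h h10, ← map_mul, Fi24.strip_lt W h10]
      congr 1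
      ext
      · simp [neg', pow_succ']
      · rfl
    · obtain rfl : l = 10 := by omega
      rw [lifts_el, ← hel, ← map_mul, Fi24.strip_ge]
      congr 1
      ext
      · simp [neg', pow_succ']
      · simp [neg']

include hh in
theorem pr_lifts_word {k : Γ} (hk : e.pr k = pres.val 11) : ∀ {W : List ℕ}, (∀ l ∈ W, l < 12) →
    e.pr (evalWord (lifts e h k) W) = evalWord pres.val W
  | [], _ => map_one _
  | l :: W, hW => by
    rw [evalWord, evalWord, map_mul, pr_lifts H hh hk (hW l List.mem_cons_self),
      pr_lifts_word hk fun x hx => hW x (List.mem_cons_of_mem _ hx)]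

include hh hel in
theorem lifts_comm {k : Γ} {a b : ℕ} (ha : a < 11) (hb : b < 11)
    (hc : Commute (pres.val a) (pres.val b)) : Commute (lifts e h k a) (lifts e h k b) := by
  have w : ∀ W : List ℕ, (∀ l ∈ W, l < 11) → e.pr (h ((-1) ^ W.length, evalWord Fi23.pres.val (strip W))) =
      evalWord pres.val W := fun W hW => by rw [hh, ← Fi24.jh_word H hW]
  have h1 : ∀ l ∈ [a, b], l < 11 := by simp; omega
  have h2 : ∀ l ∈ [b, a], l < 11 := by simp; omega
  have := (lifts_word hel (k := k) h1).trans ((h_inj H hh (by
    rw [w _ h1, w _ h2]; simp only [evalWord, mul_one]; exact hc.eq)).trans (lifts_word hel (k := k) h2).symm)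
  simp only [evalWord, mul_one] at this
  exact this

end Ext

end Cfsg.Agent.Fi24Mult77
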