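import Cfsg.Agent.Fi24Mult77.Defs
import Cfsg.Agent.SporB.Fi23.Main
import Cfsg.Agent.Fi23Mult70.Main
import Cfsg.Agent.Lib.Schur.Perfect

/-!
The double cover of the centraliser of `l` lifts to the extensions of the presented `Fi24`.
-/

set_option autoImplicit false
set_option maxRecDepth 100000

open scoped commutatorElement

namespace Cfsg.Agent.Fi24Mult77
open Cfsg.Agent.CosetEnum
open Cfsg.Agent.CosetEnum.Fi24 (G pres jh iota iota_comm signHom signHom_neg)
open Cfsg.Agent.Exist24 (G2 neg' Checked)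

theorem fi23_perfect : Group.IsPerfect Fi23.pres.Gp := by
  haveI := Fi23.simple
  rcases (inferInstance : (commutator Fi23.pres.Gp).Normal).eq_bot_or_eq_top with h | h
  · exfalso
    haveI := Fi23.finite
    haveI : IsMulCommutative Fi23.pres.Gp := ⟨⟨fun a b => by
      have : ⁅a, b⁆ ∈ commutator Fi23.pres.Gp := Subgroup.commutator_mem_commutator (Subgroup.mem_top a) (Subgroup.mem_top b)
      rw [h, Subgroup.mem_bot] at this
      exact commutatorElement_eq_one_iff_mul_comm.mp this⟩⟩
    letI : CommGroup Fi23.pres.Gp := { (inferInstance : Group Fi23.pres.Gp) with mul_comm := IsMulCommutative.is_comm.comm }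
    have hp := IsSimpleGroup.prime_card (α := Fi23.pres.Gp)
    rw [Fi23.card_eq] at hp
    exact absurd hp (by norm_num)
  · exact ⟨h⟩

/-- The double cover of the centraliser of `l` lifts. -/
theorem lift (H : Checked) : LiftStmt H := by
  intro Γ _ _ e
  have hperf := fi23_perfect
  have hcomm : ∀ g, iota H g ∈ commutator G := fun g => by
    rw [← Abelianization.ker_of G, MonoidHom.mem_ker]
    exact Schur.monoidHom_eq_one_of_perfect hperf ((Abelianization.of (G := G)).comp (iota H)) g
  let P : Subgroup Γ := (iota H).range.comap e.pr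
  let ξ : P →* (iota H).range := (e.pr.comp P.subtype).codRestrict _ fun x => x.2
  have hξ : Function.Surjective ξ := by
    rintro ⟨y, hy⟩
    obtain ⟨x, rfl⟩ := e.surj y
    exact ⟨⟨x, hy⟩, rfl⟩
  have hξc : ξ.ker ≤ Subgroup.center P := by
    intro x hx
    rw [Subgroup.mem_center_iff]
    intro y
    obtain ⟨g, hg⟩ := y.2
    have hx' : e.pr (x : Γ) = 1 := congrArg Subtype.val (MonoidHom.mem_ker.mp hx)
    exact Subtype.ext (e.even _ _ hx' (hg ▸ hcomm g)).eq.symm
  obtain ⟨η, hη⟩ := Schur.exists_lift_of_trivial hperf Fi23Mult70.multiplier (iota H).rangeRestrict ξ hξ hξc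
  have hpr : ∀ g, e.pr (η g : Γ) = iota H g := fun g => congrArg Subtype.val (DFunLike.congr_fun hη g)
  have hmem : ∀ g, e.lt * (η g : Γ) * e.lt ∈ P := fun g => by
    show e.pr (e.lt * (η g : Γ) * e.lt) ∈ (iota H).range
    rw [map_mul, map_mul, e.lt_pr, hpr, (iota_comm H g).eq, mul_assoc, Fi24.val_sq, mul_one]
    exact ⟨g, rfl⟩
  let η' : Fi23.pres.Gp →* P := MonoidHom.mk' (fun g => ⟨e.lt * (η g : Γ) * e.lt, hmem g⟩) fun a b => Subtype.ext (by
    show e.lt * (η (a * b) : Γ) * e.lt = e.lt * (η a : Γ) * e.lt * (e.lt * (η b : Γ) * e.lt)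
    rw [map_mul, Subgroup.coe_mul]
    calc e.lt * ((η a : Γ) * (η b : Γ)) * e.lt = e.lt * (η a : Γ) * (e.lt * e.lt) * (η b : Γ) * e.lt := by
          rw [e.lt_sq]; group
      _ = _ := by group)
  have hcm : ∀ g, Commute e.lt (η g : Γ) := fun g => by
    have h := Schur.hom_ext_of_perfect hperf ξ hξc η' η (MonoidHom.ext fun a => Subtype.ext (by
      show e.pr (e.lt * (η a : Γ) * e.lt) = e.pr (η a : Γ)
      rw [map_mul, map_mul, e.lt_pr, hpr, (iota_comm H a).eq, mul_assoc, Fi24.val_sq, mul_one]))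
    have h2 : e.lt * (η g : Γ) * e.lt = (η g : Γ) := congrArg (fun f : Fi23.pres.Gp →* P => (f g : Γ)) h
    show e.lt * (η g : Γ) = (η g : Γ) * e.lt
    conv_rhs => rw [← h2]
    rw [mul_assoc, e.lt_sq, mul_one]
  let sh : ℤˣ →* Γ :=
    { toFun := fun u => if u = 1 then 1 else e.lt
      map_one' := if_pos rfl
      map_mul' := fun u v => by
        rcases Int.units_eq_one_or u with rfl | rfl <;> rcases Int.units_eq_one_or v with rfl | rfl <;>
          simp [e.lt_sq] }
  have shn : sh (-1) = e.lt := by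
    show (if (-1 : ℤˣ) = 1 then (1 : Γ) else e.lt) = e.lt
    rw [if_neg (by decide)]
  let h : G2 →* Γ := MonoidHom.noncommCoprod sh (P.subtype.comp η) fun u g => by
    rcases Int.units_eq_one_or u with rfl | rfl
    · simp
    · rw [shn]; exact hcm g
  refine ⟨h, ?_, ?_⟩
  · rintro ⟨u, g⟩
    show e.pr (sh u * (η g : Γ)) = signHom u * iota H g
    rw [map_mul, hpr]
    congr 1
    rcases Int.units_eq_one_or u with rfl | rfl
    · rw [map_one, map_one, map_one]
    · rw [shn, e.lt_pr, signHom_neg]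
  · show sh (-1) * (η 1 : Γ) = e.lt
    rw [map_one, shn, OneMemClass.coe_one, mul_one]

end Cfsg.Agent.Fi24Mult77
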