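import Cfsg.Agent.Fi24Mult77.Common

/-!
The kernels of the extensions of the presented `Fi24` have order dividing three.
-/

set_option autoImplicit false
set_option maxRecDepth 100000
set_option linter.unusedSectionVars false

namespace Cfsg.Agent.Fi24Mult77
open scoped commutatorElement
open Cfsg.Agent.CosetEnum
open Cfsg.Agent.Exist24 (G2 neg' Checked)
open Cfsg.Agent.CosetEnum.Fi24 (G pres jh strip)

theorem sq23 (l : ℕ) : Fi23.pres.val l * Fi23.pres.val l = 1 := by
  rw [InvPres.val, letterVal]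
  cases Fi23.pres.gens[l]? with
  | none => exact one_mul _
  | some x => exact Fi23.pres.sq_val x

variable (H : Checked) {Γ : Type} [Group Γ] (e : Ext Γ)

/-- The closing relator. -/
theorem zW_rel : evalWord pres.val zW = 1 := pres.rel_val _ (by decide +kernel)

variable {e} in
theorem braid_rel {A : Type*} [Group A] {x y : A} (hx : x * x = 1) (hy : y * y = 1) (h : x * (y * x) = y * (x * y)) :
    x * (y * (x * (y * (x * (y * 1))))) = 1 := by
  calc x * (y * (x * (y * (x * (y * 1))))) = (x * (y * x)) * (y * (x * y)) := by simp only [mul_assoc, mul_one]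
    _ = (y * (x * y)) * (y * (x * y)) := by rw [h]
    _ = y * (x * ((y * y) * (x * y))) := by simp only [mul_assoc]
    _ = y * ((x * x) * y) := by rw [hy]; simp only [mul_assoc, one_mul]
    _ = 1 := by rw [hx, one_mul, hy]

variable {h : G2 →* Γ}

include H in
/-- If the lifts satisfy the relations then the extension is trivial. -/
theorem split_ker (hh : ∀ p, e.pr (h p) = jh H p) (hel : h (neg' 1) = e.lt) {k : Γ} (hk : e.pr k = pres.val 11)
    (ksq : k * k = 1) (hc : ∀ l, 1 ≤ l → l < 10 → Commute k (lifts e h k l))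
    (br : ∀ t, t = 0 ∨ t = 10 → k * (lifts e h k t * k) = lifts e h k t * (k * lifts e h k t))
    (hz : evalWord (lifts e h k) zW = 1) : e.pr.ker = ⊥ := by
  set v := lifts e h k with hv
  let vM : Cfsg.Spor.Fi24.Gen → Γ := fun x => v (Fi24.genList.idxOf x)
  have word : ∀ {W : List ℕ}, (∀ l ∈ W, l < 12) → evalWord (letterVal pres.gens vM) W = evalWord v W := by
    intro W
    induction W with
    | nil => intro _; rfl
    | cons l W ih =>
      intro hW
      have hl : l < pres.gens.length := hW l List.mem_cons_self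
      rw [evalWord, evalWord, ih fun x hx => hW x (List.mem_cons_of_mem _ hx), letterVal_of_lt _ _ hl]
      congr 1
      exact congrArg v (Fi24.nodup.idxOf_getElem l hl)
  have k11 : v 11 = k := lifts_k
  have k10 : v 10 = e.lt := lifts_el
  have sq : ∀ l, l < 11 → v l * v l = 1 := by
    intro l hl
    rcases Nat.lt_or_ge l 10 with h10 | h10
    · rw [hv, lifts_h h10, ← map_mul, Exist24.neg'_mul, sq23, Prod.mk_one_one, map_one]
    · obtain rfl : l = 10 := by omega
      rw [k10, e.lt_sq]
  have rels : ∀ W ∈ pres.relWords, evalWord (letterVal pres.gens vM) W = 1 := by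
    intro W hW
    have hr := List.all_eq_true.mp Fi24.rel_cover W hW
    rw [Bool.and_eq_true, Bool.or_eq_true, decide_eq_true_eq, List.all_eq_true] at hr
    rw [word fun l hl => Nat.le_of_ble_eq_true (hr.1 l hl)]
    rcases hr.2 with h2 | h2
    · obtain ⟨hlt, hp, he⟩ := Fi24.triv_spec h2
      rw [hv, lifts_word hel hlt, hp, he]
      exact map_one h
    simp only [Fi24.kWords, List.mem_append, List.mem_cons, List.not_mem_nil, or_false, List.mem_map,
      List.mem_range] at h2
    rcases h2 with (((rfl | rfl | rfl | rfl | rfl | rfl) | ⟨j, hj, rfl⟩) | ⟨j, hj, rfl⟩)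
    · simpa [evalWord, k11] using ksq
    · simp only [evalWord, k11]; exact braid_rel ksq (sq 0 (by omega)) (br 0 (Or.inl rfl))
    · simp only [evalWord, k11]; exact braid_rel (sq 0 (by omega)) ksq (br 0 (Or.inl rfl)).symm
    · simp only [evalWord, k11]; exact braid_rel ksq (sq 10 (by omega)) (br 10 (Or.inr rfl))
    · simp only [evalWord, k11]; exact braid_rel (sq 10 (by omega)) ksq (br 10 (Or.inr rfl)).symm
    · exact hz
    · simp only [evalWord, k11]
      exact Fi24.comm4 ksq (sq _ (by omega)) (hc (j + 1) (by omega) (by omega))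
    · simp only [evalWord, k11]
      exact Fi24.comm4 (sq _ (by omega)) ksq (hc (j + 1) (by omega) (by omega)).symm
  let s : G →* Γ := PresentedGroup.toGroup (pres.kills vM rels)
  have hs : ∀ g, e.pr (s g) = g := by
    intro g
    have hg : g ∈ Subgroup.closure (pres.val '' Set.Iio pres.gens.length) := pres.closure_val ▸ Subgroup.mem_top g
    induction hg using Subgroup.closure_induction with
    | mem x hx =>
      obtain ⟨l, hl, rfl⟩ := hx
      have hl' : l < pres.gens.length := hl
      have e1 : s (pres.val l) = vM (pres.gens[l]) := by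
        rw [InvPres.val, letterVal_of_lt _ _ hl']
        exact PresentedGroup.toGroup.of _
      have e2 : vM (pres.gens[l]) = v l := congrArg v (Fi24.nodup.idxOf_getElem l hl')
      rw [e1, e2, hv, pr_lifts H hh hk (show l < 12 from hl)]
    | one => rw [map_one, map_one]
    | mul a b _ _ ha hb => rw [map_mul, map_mul, ha, hb]
    | inv a _ ha => rw [map_inv, map_inv, ha]
  -- the preimage of the derived subgroup lies in the image of the section
  have hle : (commutator G).comap e.pr ≤ s.range := by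
    rw [← e.perfect, Subgroup.commutator_le]
    intro x hx y hy
    set a := s (e.pr x)
    set b := s (e.pr y)
    have ka : e.pr (a⁻¹ * x) = 1 := by rw [map_mul, map_inv, hs, inv_mul_cancel]
    have kb : e.pr (b⁻¹ * y) = 1 := by rw [map_mul, map_inv, hs, inv_mul_cancel]
    have c1 := (e.even _ b ka (by rw [hs]; exact hy)).eq
    have c2 := (e.even _ a kb (by rw [hs]; exact hx)).eq
    have c3 := (e.comm _ _ ka kb).eq
    refine ⟨⁅e.pr x, e.pr y⁆, ?_⟩
    show s ⁅e.pr x, e.pr y⁆ = ⁅x, y⁆
    rw [map_commutatorElement]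
    show ⁅a, b⁆ = ⁅x, y⁆
    rw [commutatorElement_def, commutatorElement_def]
    set p := a⁻¹ * x
    set q := b⁻¹ * y
    rw [show x = a * p by simp [p], show y = b * q by simp [q]]
    simp only [mul_inv_rev]
    calc a * b * a⁻¹ * b⁻¹ = a * b * (q * a⁻¹ * q⁻¹) * b⁻¹ := by
          have : Commute q a⁻¹ := Commute.inv_right c2
          rw [this.eq, mul_inv_cancel_right]
      _ = a * (p * b) * q * (p⁻¹ * a⁻¹) * (q⁻¹ * b⁻¹) := by
          rw [c1]
          have c3' : q * p⁻¹ = p⁻¹ * q := (Commute.inv_left (show Commute p q from c3)).eq.symm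
          calc a * b * (q * a⁻¹ * q⁻¹) * b⁻¹ = a * b * (p * (p⁻¹ * q)) * a⁻¹ * q⁻¹ * b⁻¹ := by group
            _ = a * b * (p * (q * p⁻¹)) * a⁻¹ * q⁻¹ * b⁻¹ := by rw [c3']
            _ = _ := by group
      _ = _ := by group
  rw [eq_bot_iff]
  intro a ha
  obtain ⟨g, rfl⟩ := hle (show e.pr a ∈ commutator G by rw [MonoidHom.mem_ker.mp ha]; exact one_mem _)
  rw [MonoidHom.mem_ker, hs] at ha
  rw [ha, map_one]
  exact Subgroup.mem_bot.mpr rfl

/-- The extension by a normal subgroup of the kernel. -/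
def Ext.quot (R : Subgroup Γ) [R.Normal] (hR : R ≤ e.pr.ker) : Ext (Γ ⧸ R) where
  pr := QuotientGroup.lift R e.pr hR
  surj g := by
    obtain ⟨x, hx⟩ := e.surj g
    exact ⟨QuotientGroup.mk' R x, hx⟩
  comm a b ha hb := by
    obtain ⟨x, rfl⟩ := QuotientGroup.mk'_surjective R a
    obtain ⟨y, rfl⟩ := QuotientGroup.mk'_surjective R b
    exact (e.comm x y ha hb).map (QuotientGroup.mk' R)
  even a g ha hg := by
    obtain ⟨x, rfl⟩ := QuotientGroup.mk'_surjective R a
    obtain ⟨y, rfl⟩ := QuotientGroup.mk'_surjective R g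
    exact (e.even x y ha hg).map (QuotientGroup.mk' R)
  perfect := by
    set q := QuotientGroup.mk' R
    have hmap : ((commutator G).comap e.pr).map q = (commutator G).comap (QuotientGroup.lift R e.pr hR) := by
      ext z
      constructor
      · rintro ⟨x, hx, rfl⟩; exact hx
      · intro hz
        obtain ⟨x, rfl⟩ := QuotientGroup.mk'_surjective R z
        exact ⟨x, hz, rfl⟩
    rw [← hmap, ← Subgroup.map_commutator, e.perfect]
  lt := QuotientGroup.mk' R e.lt
  lt_pr := e.lt_pr
  lt_sq := by rw [← map_mul, e.lt_sq, map_one]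

theorem odd_of_conj {m : ℕ} (hm : m < 12) (g : G) : g * pres.val m * g⁻¹ * pres.val 10 ∈ commutator G := by
  rw [← Abelianization.ker_of G, MonoidHom.mem_ker, map_mul, map_mul, map_mul, map_inv, mul_comm (Abelianization.of g),
    mul_inv_cancel_right, letters_eq Abelianization.of m hm, ← map_mul, Fi24.val_sq, map_one]

theorem conj_word {A : Type} [Group A] (u : ℕ → A) (g : A) : ∀ W : List ℕ,
    evalWord (fun l => g * u l * g⁻¹) W = g * evalWord u W * g⁻¹
  | [] => by simp [evalWord]
  | l :: W => by rw [evalWord, evalWord, conj_word u g W]; group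

theorem eval_congr {A : Type} [Group A] {u w : ℕ → A} : ∀ {W : List ℕ}, (∀ l ∈ W, u l = w l) →
    evalWord u W = evalWord w W
  | [], _ => rfl
  | l :: W, h => by
    rw [evalWord, evalWord, h l List.mem_cons_self, eval_congr fun x hx => h x (List.mem_cons_of_mem _ hx)]

theorem eval_comm {A : Type} [Group A] {u : ℕ → A} {x : A} : ∀ {W : List ℕ}, (∀ l ∈ W, Commute x (u l)) →
    Commute x (evalWord u W)
  | [], _ => Commute.one_right _
  | l :: W, h => (h l List.mem_cons_self).mul_right (eval_comm fun y hy => h y (List.mem_cons_of_mem _ hy))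

variable {e}

include H in
/-- The relations of the letters in the three pairs of commutation of `k`. -/
theorem k_rel : ∀ l, 1 ≤ l → l < 10 → Commute (pres.val 11) (pres.val l) :=
  fun _ h1 h10 => Fi24.k_comm h1 h10

/-- The letters moved by the long word. -/
def W1 : List ℕ := [11, 10, 0, 11, 1, 0, 2, 1, 3, 2, 4, 3, 5, 4, 6, 5, 7, 6]

/-- The letters moved by the short word. -/
def W2 : List ℕ := [11, 10, 0, 11, 1, 0, 2, 1]

/-- A word conjugates a letter into the centraliser of `l`. -/
noncomputable def intoC (W : List ℕ) (m : ℕ) : Bool :=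
  ((W ++ [m] ++ W.reverse ++ [10]) ++ ([10] ++ W ++ [m] ++ W.reverse).reverse).all (fun l => Nat.blt l 12) &&
    Fi24.twelve.all (fun i => Nat.beq
      (Fi24.runC ((W ++ [m] ++ W.reverse ++ [10]) ++ ([10] ++ W ++ [m] ++ W.reverse).reverse) i) i)

theorem intoC_ok : ([0, 1, 2, 3, 4, 5, 8, 9].all (intoC W1) && [0, 4, 10, 11].all (intoC W2)) = true := by
  decide +kernel

theorem xFull_ok : (Fi24.twelve.all (fun i => Nat.beq
      (Fi24.runC (([11] ++ Fi23.Tri.xFull) ++ (Fi23.Tri.xFull ++ [11]).reverse) i) i) &&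
    Fi24.twelve.all (fun i => Nat.beq (Fi24.runC ((Fi23.Tri.xFull ++ Fi23.Tri.xFull) ++ [].reverse) i) i)) = true := by
  decide +kernel

include H in
theorem x_G : Commute (pres.val 11) (evalWord pres.val Fi23.Tri.xFull) ∧
    evalWord pres.val Fi23.Tri.xFull * evalWord pres.val Fi23.Tri.xFull = 1 := by
  have h := xFull_ok
  rw [Bool.and_eq_true] at h
  constructor
  · have := eq_G H (by decide +kernel) h.1
    simpa [evalWord_append, evalWord, Commute, SemiconjBy] using this
  · have := eq_G H (by decide +kernel) h.2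
    simpa [evalWord_append, evalWord] using this

variable (hh : ∀ p, e.pr (h p) = jh H p) (hel : h (neg' 1) = e.lt) {k : Γ} (hk : e.pr k = pres.val 11)

include hh in
/-- The image of a letter under a word, inside the centraliser of `l` up to the kernel. -/
theorem into_h {W : List ℕ} {m : ℕ} (hW : ∀ l ∈ W, l < 12) (hm : m < 12) (hok : intoC W m = true)
    (hk : e.pr k = pres.val 11) : ∃ p, ∃ D, e.pr D = 1 ∧
      evalWord (lifts e h k) W * lifts e h k m * (evalWord (lifts e h k) W)⁻¹ = D * h p ∧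
      jh H p = evalWord pres.val W * pres.val m * (evalWord pres.val W)⁻¹ := by
  simp only [intoC, Bool.and_eq_true] at hok
  have hG := eq_G H hok.1 hok.2
  simp only [evalWord_append, Fi24.eval_reverse, evalWord, mul_one] at hG
  obtain ⟨p, hp⟩ := cent_l H (g := evalWord pres.val W * pres.val m * (evalWord pres.val W)⁻¹)
    (hG.trans (by simp only [mul_assoc]))
  refine ⟨p, _, ?_, (inv_mul_cancel_right _ (h p)).symm, hp⟩
  rw [map_mul, map_mul, map_mul, map_inv, map_inv, hh, hp, pr_lifts_word H hh hk hW, pr_lifts H hh hk hm,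
    mul_inv_cancel]

/-- The lifts as a structure for the walk. -/
noncomputable def mkLifts (H : Checked) {Γ : Type} [Group Γ] {e : Ext Γ} {h : G2 →* Γ}
    (hh : ∀ p, e.pr (h p) = jh H p) (hel : h (neg' 1) = e.lt) {k : Γ} (hk : e.pr k = pres.val 11) (ksq : k * k = 1)
    (hc : ∀ l, 1 ≤ l → l < 10 → Commute k (lifts e h k l))
    (br : ∀ t, t = 0 ∨ t = 10 → k * (lifts e h k t * k) = lifts e h k t * (k * lifts e h k t))
    (htau : Commute k (evalWord (lifts e h k) Fi23.Tri.xFull)) : Lifts H Γ where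
  pr := e.pr
  v := lifts e h k
  h := h
  pr_v l hl := pr_lifts H hh hk hl
  pr_h := hh
  h_el := by rw [hel, lifts_el]
  h_gen l hl := (lifts_h hl).symm
  sq l := by
    unfold lifts
    split_ifs with a b c
    · rw [← map_mul, Exist24.neg'_mul, sq23, Prod.mk_one_one, map_one]
    · exact e.lt_sq
    · exact ksq
    · exact one_mul 1
  kc l h1 h10 := by rw [lifts_k]; exact hc l h1 h10
  br t ht := by rw [lifts_k]; exact br t ht
  tau := by rw [lifts_k]; exact htau

include H hh hel in
/-- The central case. -/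
theorem central (hcen : ∀ a g, e.pr a = 1 → Commute a g) : e.pr.ker = ⊥ := by
  obtain ⟨g0, hg0⟩ := e.surj (pres.val 10 * pres.val 11)
  obtain ⟨k, hkdef⟩ : ∃ k, k = g0 * e.lt * g0⁻¹ := ⟨_, rfl⟩
  have hG : pres.val 10 * pres.val 11 * pres.val 10 * (pres.val 10 * pres.val 11)⁻¹ = pres.val 11 := by
    have := pres.rel_val [10, 11, 10, 11, 10, 11] (by decide +kernel)
    simp only [evalWord, mul_one] at this
    rw [mul_inv_rev, Fi24.val_inv, Fi24.val_inv]
    calc pres.val 10 * pres.val 11 * pres.val 10 * (pres.val 11 * pres.val 10)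
        = pres.val 10 * (pres.val 11 * (pres.val 10 * (pres.val 11 * (pres.val 10 * pres.val 11)))) *
          (pres.val 11)⁻¹ := by rw [Fi24.val_inv]; simp only [mul_assoc, Fi24.val_sq, mul_one]
      _ = pres.val 11 := by rw [this, one_mul, Fi24.val_inv]
  have hk : e.pr k = pres.val 11 := by rw [hkdef, map_mul, map_mul, map_inv, hg0, e.lt_pr, hG]
  have ksq : k * k = 1 := by
    rw [hkdef, show g0 * e.lt * g0⁻¹ * (g0 * e.lt * g0⁻¹) = g0 * (e.lt * e.lt) * g0⁻¹ by group, e.lt_sq]; group
  have kinv : k⁻¹ = k := inv_eq_of_mul_eq_one_right ksq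
  have hlt : ∀ p, Commute e.lt (h p) := fun p => by
    rw [← hel]
    refine Commute.map ?_ h
    show neg' 1 * p = p * neg' 1
    ext <;> simp [neg', mul_comm]
  -- the lifts over the centraliser of `k` commute with the lift of `k`
  have kcomm : ∀ p, Commute (pres.val 11) (jh H p) → Commute k (h p) := by
    intro p hp
    have hl10 : Commute (pres.val 10) (jh H p) := by
      have := (hlt p).map e.pr
      rwa [e.lt_pr, hh] at this
    have e1 : e.pr (g0⁻¹ * h p * g0) = e.pr (h p) := by
      rw [map_mul, map_mul, map_inv, hg0, hh, mul_assoc, ← (hl10.mul_left hp).eq, inv_mul_cancel_left]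
    have e2 := conj_congr_central e hcen e1 e.lt
    rw [show h p * e.lt * (h p)⁻¹ = e.lt by rw [← (hlt p).eq, mul_inv_cancel_right]] at e2
    have e3 : h p * k * (h p)⁻¹ = k := by
      calc h p * k * (h p)⁻¹ = g0 * ((g0⁻¹ * h p * g0) * e.lt * (g0⁻¹ * h p * g0)⁻¹) * g0⁻¹ := by
            rw [hkdef]; group
        _ = k := by rw [e2, hkdef]
    exact (mul_inv_eq_iff_eq_mul.mp e3).symm
  set v := lifts e h k with hv
  have v10 : v 10 = e.lt := lifts_el
  have v11 : v 11 = k := lifts_k
  have hjl : ∀ {l}, l < 10 → jh H (neg' (Fi23.pres.val l)) = pres.val l := fun hl => Fi24.jh_gen H hl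
  have hc : ∀ l, 1 ≤ l → l < 10 → Commute k (v l) := fun l h1 h10 => by
    rw [hv, lifts_h h10]
    exact kcomm _ (by rw [hjl h10]; exact k_rel H l h1 h10)
  -- the braid with `l`
  have brl : k * (e.lt * k) = e.lt * (k * e.lt) := by
    have e1 : e.pr (e.lt * g0) = e.pr k := by
      rw [map_mul, e.lt_pr, hg0, hk, ← mul_assoc, Fi24.val_sq, one_mul]
    have e2 := conj_congr_central e hcen e1 e.lt
    calc k * (e.lt * k) = k * e.lt * k⁻¹ := by rw [kinv, mul_assoc]
      _ = e.lt * g0 * e.lt * (e.lt * g0)⁻¹ := e2.symm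
      _ = e.lt * (k * e.lt) := by
        rw [hkdef, mul_inv_rev, inv_eq_of_mul_eq_one_right e.lt_sq]; simp only [mul_assoc]
  -- the braid with `a`, by moving the relation of `l` along the chain
  set g := evalWord v W1 with hgdef
  have hok := intoC_ok
  simp only [Bool.and_eq_true, List.all_eq_true] at hok
  have hW1 : ∀ l ∈ W1, l < 12 := by decide
  have hin : ∀ m ∈ [0, 1, 2, 3, 4, 5, 8, 9], ∃ p, ∃ D, e.pr D = 1 ∧ g * v m * g⁻¹ = D * h p ∧
      jh H p = evalWord pres.val W1 * pres.val m * (evalWord pres.val W1)⁻¹ :=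
    fun m hm => into_h H hh hW1 ((by decide : ∀ m ∈ [0, 1, 2, 3, 4, 5, 8, 9], m < 12) m hm) (hok.1 m hm) hk
  choose P D hD heq hP using hin
  have brD : ∀ m n (hm : m ∈ [0, 1, 2, 3, 4, 5, 8, 9]) (hn : n ∈ [0, 1, 2, 3, 4, 5, 8, 9]),
      [m, n, m, n, m, n] ∈ pres.relWords → D m hm = D n hn := by
    intro m n hm hn hr
    have lt11 : ∀ x ∈ [0, 1, 2, 3, 4, 5, 8, 9], x < 11 := by decide
    have hG2 : pres.val m * pres.val n * pres.val m = pres.val n * pres.val m * pres.val n := by
      have := pres.rel_val _ hr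
      simp only [evalWord, mul_one] at this
      calc pres.val m * pres.val n * pres.val m
          = (pres.val m * (pres.val n * (pres.val m * (pres.val n * (pres.val m * pres.val n))))) *
            ((pres.val n)⁻¹ * (pres.val m)⁻¹ * (pres.val n)⁻¹) := by group
        _ = _ := by rw [this, one_mul, Fi24.val_inv, Fi24.val_inv]
    have hv2 : v m * v n * v m = v n * v m * v n := by
      have w1 : ∀ l ∈ [m, n, m], l < 11 := by simp [lt11 m hm, lt11 n hn]
      have w2 : ∀ l ∈ [n, m, n], l < 11 := by simp [lt11 m hm, lt11 n hn]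
      have e : evalWord (lifts e h k) [m, n, m] = evalWord (lifts e h k) [n, m, n] := by
        rw [lifts_word hel w1, lifts_word hel w2]
        refine h_inj H hh ?_
        rw [hh, hh, ← Fi24.jh_word H w1, ← Fi24.jh_word H w2]
        simpa [evalWord, mul_assoc] using hG2
      simpa [hv, evalWord, mul_assoc] using e
    have hp2 : h (P m hm) * h (P n hn) * h (P m hm) = h (P n hn) * h (P m hm) * h (P n hn) := by
      rw [← map_mul, ← map_mul, ← map_mul, ← map_mul]
      refine h_inj H hh ?_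
      simp only [map_mul, hh, hP]
      rw [conj_mul, conj_mul, conj_mul, conj_mul, hG2]
    have e1 : (g * v m * g⁻¹) * (g * v n * g⁻¹) * (g * v m * g⁻¹) =
        (g * v n * g⁻¹) * (g * v m * g⁻¹) * (g * v n * g⁻¹) := by
      rw [conj_mul, conj_mul, conj_mul, conj_mul, hv2]
    rw [heq m hm, heq n hn] at e1
    have c : ∀ x, Commute (D m hm) x := fun x => hcen _ x (hD m hm)
    have c' : ∀ x, Commute (D n hn) x := fun x => hcen _ x (hD n hn)
    have e2 : D m hm * D n hn * D m hm * (h (P m hm) * h (P n hn) * h (P m hm)) =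
        D n hn * D m hm * D n hn * (h (P n hn) * h (P m hm) * h (P n hn)) := by
      have r : ∀ (a b x y : Γ), (∀ z, Commute a z) → (∀ z, Commute b z) →
          (a * x) * (b * y) * (a * x) = a * b * a * (x * y * x) := by
        intro a b x y ha hb
        calc (a * x) * (b * y) * (a * x) = a * (x * b) * (y * a) * x := by group
          _ = a * (b * x) * (a * y) * x := by rw [(hb x).eq, (ha y).eq]
          _ = a * b * (x * a) * (y * x) := by group
          _ = a * b * (a * x) * (y * x) := by rw [(ha x).eq]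
          _ = _ := by group
      rw [← r _ _ _ _ c c', ← r _ _ _ _ c' c]
      exact e1
    rw [← hp2] at e2
    have e3 := mul_right_cancel e2
    rw [(c (D n hn)).eq] at e3
    exact mul_left_cancel e3
  have hD9 : D 9 (by decide) = 1 := by
    have hfix : g * v 9 * g⁻¹ = v 9 := by
      have hcm : ∀ l ∈ W1, Commute (v 9) (v l) := by
        intro l hl
        by_cases h11 : l = 11
        · subst h11; rw [v11]; exact (hc 9 (by omega) (by omega)).symm
        · refine lifts_comm H hh hel (by omega) (by have := hW1 l hl; omega) ?_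
          have : [9, l, 9, l] ∈ pres.relWords :=
            (by decide +kernel : ∀ l ∈ W1, l ≠ 11 → [9, l, 9, l] ∈ pres.relWords) l hl h11
          exact Fi24.comm_of_rel this
      rw [← (eval_comm hcm).eq, mul_inv_cancel_right]
    have e1 := heq 9 (by decide)
    rw [hfix, hv, lifts_h (show 9 < 10 by omega)] at e1
    have e2 : h (P 9 (by decide)) = h (neg' (Fi23.pres.val 9)) := h_inj H hh (by
      conv_rhs => rw [e1]
      rw [map_mul, hD 9 (by decide), one_mul])
    rw [e2] at e1
    exact mul_eq_right.mp e1.symm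
  have d8 : D 8 (by decide) = 1 := (brD 8 9 _ _ (by decide +kernel)).trans hD9
  have d3 : D 3 (by decide) = 1 := (brD 3 8 _ _ (by decide +kernel)).trans d8
  have d4 : D 4 (by decide) = 1 := (brD 3 4 _ _ (by decide +kernel)).symm.trans d3
  have d5 : D 5 (by decide) = 1 := (brD 4 5 _ _ (by decide +kernel)).symm.trans d4
  have d2 : D 2 (by decide) = 1 := (brD 2 3 _ _ (by decide +kernel)).trans d3
  have d1 : D 1 (by decide) = 1 := (brD 1 2 _ _ (by decide +kernel)).trans d2
  have d0 : D 0 (by decide) = 1 := (brD 0 1 _ _ (by decide +kernel)).trans d1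
  set E7w : List ℕ := repWord [0, 1, 2, 3, 4, 5, 8] 9 with hE7
  have hE7lt : ∀ l ∈ E7w, l < 11 := by decide +kernel
  have hE7v : evalWord v E7w = e.lt := by
    rw [hv, lifts_word hel hE7lt, show strip E7w = E7w by decide +kernel,
      Fi23.pres.rel_val E7w (by decide +kernel), show E7w.length = 63 from rfl,
      show ((-1 : ℤˣ)) ^ 63 = -1 by decide]
    exact hel
  have hconj : ∃ q, g * e.lt * g⁻¹ = h q := by
    classical
    let P' : ℕ → G2 := fun m => if hm : m ∈ [0, 1, 2, 3, 4, 5, 8, 9] then P m hm else 1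
    refine ⟨evalWord P' E7w, ?_⟩
    rw [← hE7v, ← conj_word v g]
    refine Eq.trans (eval_congr fun l hl => ?_) (Glue.evalWord_hom h P' E7w).symm
    have hl7 : l ∈ [0, 1, 2, 3, 4, 5, 8] := (by decide +kernel : ∀ l ∈ E7w, l ∈ [0, 1, 2, 3, 4, 5, 8]) l hl
    have hl8 : l ∈ [0, 1, 2, 3, 4, 5, 8, 9] := (by decide : ∀ l ∈ [0, 1, 2, 3, 4, 5, 8], l ∈ [0, 1, 2, 3, 4, 5, 8, 9]) l hl7
    show g * v l * g⁻¹ = h (P' l)
    rw [heq l hl8, show P' l = P l hl8 from dif_pos hl8]
    have : D l hl8 = 1 := by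
      simp only [List.mem_cons, List.not_mem_nil, or_false] at hl7
      rcases hl7 with rfl | rfl | rfl | rfl | rfl | rfl | rfl
      exacts [d0, d1, d2, d3, d4, d5, d8]
    rw [this, one_mul]
  obtain ⟨q, hq⟩ := hconj
  set A := v 0 with hA
  have hgl : g * e.lt * g⁻¹ = k * e.lt * A * k * e.lt * k * A * e.lt * k := by
    have hR : Commute e.lt (evalWord v ([1, 0, 2, 1, 3, 2, 4, 3, 5, 4, 6, 5, 7, 6] : List ℕ)) :=
      eval_comm fun l hl => by
        rw [hv, lifts_h ((by decide : ∀ l ∈ [1, 0, 2, 1, 3, 2, 4, 3, 5, 4, 6, 5, 7, 6], l < 10) l hl)]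
        exact hlt _
    have ainv : A⁻¹ = A := by
      refine inv_eq_of_mul_eq_one_right ?_
      rw [hA, hv, lifts_h (show 0 < 10 by omega), ← map_mul, Exist24.neg'_mul, sq23, Prod.mk_one_one, map_one]
    have hg : g = k * e.lt * A * k * evalWord v [1, 0, 2, 1, 3, 2, 4, 3, 5, 4, 6, 5, 7, 6] := by
      rw [hgdef, show W1 = [11, 10, 0, 11] ++ [1, 0, 2, 1, 3, 2, 4, 3, 5, 4, 6, 5, 7, 6] from rfl, evalWord_append,
        show evalWord v [11, 10, 0, 11] = k * e.lt * A * k by simp [evalWord, v10, v11, hA, mul_assoc]]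
    rw [hg]
    generalize evalWord v ([1, 0, 2, 1, 3, 2, 4, 3, 5, 4, 6, 5, 7, 6] : List ℕ) = R at hR ⊢
    calc k * e.lt * A * k * R * e.lt * (k * e.lt * A * k * R)⁻¹
        = k * e.lt * A * k * (R * e.lt * R⁻¹) * k⁻¹ * A⁻¹ * e.lt⁻¹ * k⁻¹ := by group
      _ = _ := by rw [← hR.eq, mul_inv_cancel_right, kinv, ainv, inv_eq_of_mul_eq_one_right e.lt_sq]
  have hqA : h q = A := by
    rw [hA, hv, lifts_h (show 0 < 10 by omega)]
    refine h_inj H hh ?_
    rw [← hq, hgdef, map_mul, map_mul, map_inv, hv, pr_lifts_word H hh hk hW1, e.lt_pr, hh, hjl (by omega)]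
    have := eq_G H (U := W1 ++ [10] ++ W1.reverse) (V := [0]) (by decide +kernel) (by decide +kernel)
    simpa [evalWord_append, evalWord, Fi24.eval_reverse, mul_assoc] using this
  have brA : k * (A * k) = A * (k * A) := by
    have lA : e.lt * A * e.lt = A := by
      rw [hA, hv, lifts_h (show 0 < 10 by omega), (hlt _).eq, mul_assoc, e.lt_sq, mul_one]
    have e1 : k * A * k * A * k = A := by
      calc k * A * k * A * k = k * (e.lt * A * e.lt) * k * (e.lt * A * e.lt) * k := by rw [lA]
        _ = k * e.lt * A * (e.lt * (k * e.lt)) * A * e.lt * k := by group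
        _ = k * e.lt * A * (k * (e.lt * k)) * A * e.lt * k := by rw [brl]
        _ = g * e.lt * g⁻¹ := by rw [hgl]; simp only [mul_assoc]
        _ = A := by rw [hq, hqA]
    calc k * (A * k) = k * (k * A * k * A * k) * k := by rw [e1, mul_assoc]
      _ = (k * k) * (A * k * A) * (k * k) := by group
      _ = A * (k * A) := by rw [ksq, one_mul, mul_one, mul_assoc]
  have br : ∀ t, t = 0 ∨ t = 10 → k * (v t * k) = v t * (k * v t) := by
    rintro t (rfl | rfl)
    · exact brA
    · rw [v10]; exact brl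
  have htau : Commute k (evalWord v Fi23.Tri.xFull) := by
    have hx : ∀ l ∈ Fi23.Tri.xFull, l < 11 := fun l hl => by have := Exist24.xFull_lt l hl; omega
    rw [hv, lifts_word hel hx]
    exact kcomm _ (by rw [← Fi24.jh_word H hx]; exact (x_G H).1)
  refine split_ker H e hh hel hk ksq hc br (z_trivial (H := H) (mkLifts H hh hel hk ksq hc br htau))

section Odd
variable (hinv : ∀ a, e.pr a = 1 → e.lt * a * e.lt = a⁻¹)
include hinv

theorem odd_inv {x : Γ} (hx : e.pr x * pres.val 10 ∈ commutator G) {a : Γ} (ha : e.pr a = 1) :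
    x * a * x⁻¹ = a⁻¹ := by
  have hev := (e.even a (x * e.lt) ha (by rwa [map_mul, e.lt_pr])).eq
  calc x * a * x⁻¹ = (x * e.lt) * (e.lt * a * e.lt) * (x * e.lt)⁻¹ := by
        rw [mul_inv_rev, inv_eq_of_mul_eq_one_right e.lt_sq]
        calc x * a * x⁻¹ = x * (e.lt * e.lt) * a * (e.lt * e.lt) * x⁻¹ := by rw [e.lt_sq, mul_one, mul_one]
          _ = _ := by group
    _ = (x * e.lt) * a⁻¹ * (x * e.lt)⁻¹ := by rw [hinv a ha]
    _ = (a * (x * e.lt) * a⁻¹ * (x * e.lt)⁻¹) * a⁻¹ := by
        have hc : Commute (x * e.lt) a⁻¹ := (show Commute a (x * e.lt) from hev).symm.inv_right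
        rw [hev, mul_inv_cancel_right, mul_inv_cancel, one_mul, hc.eq, mul_inv_cancel_right]
    _ = a⁻¹ := by rw [hev, mul_inv_cancel_right, mul_inv_cancel, one_mul]

/-- Passing an element of the kernel through an odd element. -/
theorem odd_move {x : Γ} (hx : e.pr x * pres.val 10 ∈ commutator G) {a : Γ} (ha : e.pr a = 1) :
    x * a = a⁻¹ * x :=
  mul_inv_eq_iff_eq_mul.mp (odd_inv hinv hx ha)

variable (htwo : ∀ a, e.pr a = 1 → a * a = 1 → a = 1)
include htwo

theorem odd_sq {x : Γ} (hx : e.pr x * pres.val 10 ∈ commutator G) (h2 : e.pr x * e.pr x = 1) : x * x = 1 := by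
  have ha : e.pr (x * x) = 1 := by rw [map_mul, h2]
  have e1 := odd_inv hinv hx ha
  rw [show x * (x * x) * x⁻¹ = x * x by group] at e1
  exact htwo _ ha (by conv_lhs => arg 1; rw [e1]
                      exact inv_mul_cancel _)

include H hh hel

theorem odd (hfin : Finite Γ) : Nat.card e.pr.ker ∣ 3 := by
  have hlt : ∀ p, Commute e.lt (h p) := fun p => by
    rw [← hel]
    refine Commute.map ?_ h
    show neg' 1 * p = p * neg' 1
    ext <;> simp [neg', mul_comm]
  have odd_val : ∀ {m}, m < 12 → pres.val m * pres.val 10 ∈ commutator G := fun hm => pair_mem hm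
  -- a square root in the kernel
  have sqrt : ∀ a : e.pr.ker, ∃ b : e.pr.ker, b * b = a := by
    refine Finite.injective_iff_surjective.mp ?_
    intro a b hab
    have hcm : Commute (a : Γ) b := e.comm _ _ a.2 b.2
    have e2 : (a : Γ) * a = (b : Γ) * b := congrArg Subtype.val hab
    have e3 := htwo _ (show e.pr ((a : Γ) * (b : Γ)⁻¹) = 1 by rw [map_mul, map_inv, a.2, b.2, inv_one, mul_one]) (by
      rw [hcm.inv_right.symm.mul_mul_mul_comm, e2]; group)
    exact Subtype.ext (mul_inv_eq_one.mp e3)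
  -- the lift of `k` commuting with the lift of `i`
  set i := h (neg' (Fi23.pres.val 9)) with hi
  have hiG : e.pr i = pres.val 9 := by rw [hi, hh, Fi24.jh_gen H (by omega)]
  obtain ⟨k0, hk0⟩ := e.surj (pres.val 11)
  have i_odd : e.pr i * pres.val 10 ∈ commutator G := hiG ▸ odd_val (by omega)
  have isq : i * i = 1 := odd_sq hinv htwo i_odd (by rw [hiG, Fi24.val_sq])
  have ht : e.pr (k0⁻¹ * (i * k0 * i)) = 1 := by
    rw [map_mul, map_mul, map_mul, map_inv, hiG, hk0, ← (k_rel H 9 (by omega) (by omega)).eq, mul_assoc,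
      Fi24.val_sq, mul_one, inv_mul_cancel]
  obtain ⟨⟨s, hs⟩, hss⟩ := sqrt ⟨_, ht⟩
  have hss' : s * s = k0⁻¹ * (i * k0 * i) := congrArg Subtype.val hss
  have hs1 : e.pr s = 1 := hs
  obtain ⟨k, hkdef⟩ : ∃ k, k = k0 * s := ⟨_, rfl⟩
  have hk : e.pr k = pres.val 11 := by rw [hkdef, map_mul, hk0, hs1, mul_one]
  have k_odd : e.pr k * pres.val 10 ∈ commutator G := hk ▸ odd_val (by omega)
  have ksq : k * k = 1 := odd_sq hinv htwo k_odd (by rw [hk, Fi24.val_sq])
  have kinv : k⁻¹ = k := inv_eq_of_mul_eq_one_right ksq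
  have ki : Commute k i := by
    have e1 : i * s = s⁻¹ * i := odd_move hinv i_odd hs1
    have e2 : i * k0 * i = k0 * (s * s) := by rw [hss']; group
    have e3 : i * k * i = k := by
      calc i * k * i = i * k0 * (i * i) * s * i := by rw [isq, hkdef]; group
        _ = (i * k0 * i) * ((i * s) * i) := by group
        _ = k0 * (s * s) * ((s⁻¹ * i) * i) := by rw [e1, e2]
        _ = k0 * (s * s) * (s⁻¹ * (i * i)) := by group
        _ = k := by rw [isq, hkdef]; group
    show k * i = i * k
    calc k * i = i * k * i * i := by rw [e3]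
      _ = i * k := by rw [mul_assoc (i * k), isq, mul_one]
  set v := lifts e h k with hv
  have v10 : v 10 = e.lt := lifts_el
  have v11 : v 11 = k := lifts_k
  have hW2 : ∀ l ∈ W2, l < 12 := by decide
  have vsq : ∀ {m}, m < 11 → v m * v m = 1 := by
    intro m hm
    refine odd_sq hinv htwo ?_ ?_ <;> rw [hv, pr_lifts H hh hk (by omega)]
    exacts [odd_val (by omega), Fi24.val_sq m]
  -- a commuting pair of letters carries commutation with `k`
  have step : ∀ {n m}, n < 10 → 1 ≤ m → m < 10 → [n, m, n, m] ∈ pres.relWords → Commute k (v n) → Commute k (v m) := by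
    intro n m hn h1 hm hr hkn
    have hnm : Commute (v n) (v m) := lifts_comm H hh hel (by omega) (by omega) (Fi24.comm_of_rel hr)
    have hpm : e.pr (v m) = pres.val m := pr_lifts H hh hk (by omega)
    set t := k * (v m * k * v m) with ht_def
    have ht1 : e.pr t = 1 := by
      rw [ht_def, map_mul, map_mul, map_mul, hk, hpm, ← (k_rel H m h1 hm).eq, mul_assoc (pres.val 11),
        Fi24.val_sq, mul_one, Fi24.val_sq]
    have hfix : Commute (v n) t :=
      (hkn.symm).mul_right ((hnm.mul_right hkn.symm).mul_right hnm)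
    have ho : e.pr (v n) * pres.val 10 ∈ commutator G := (pr_lifts H hh hk (show n < 12 by omega)).symm ▸ odd_val (by omega)
    have e1 := odd_move hinv ho ht1
    rw [hfix.eq] at e1
    have e2 : t = t⁻¹ := mul_right_cancel e1
    have t1 : t = 1 := htwo t ht1 (by conv_lhs => arg 2; rw [e2]
                                      exact mul_inv_cancel _)
    rw [ht_def, ← kinv, inv_mul_eq_one] at t1
    show k * v m = v m * k
    calc k * v m = v m * k⁻¹ * v m * v m := by rw [← t1]
      _ = v m * k := by rw [mul_assoc (v m * k⁻¹), vsq (by omega), mul_one, kinv]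
  have hi9 : Commute k (v 9) := by rw [hv, lifts_h (show 9 < 10 by omega)]; exact ki
  have hc : ∀ l, 1 ≤ l → l < 10 → Commute k (v l) := by
    have h8 : ∀ l, 1 ≤ l → l < 10 → l ≠ 8 → Commute k (v l) := by
      intro l h1 h10 hne
      by_cases h9 : l = 9
      · exact h9 ▸ hi9
      · exact step (by omega) h1 h10
          ((by decide +kernel : ∀ l ∈ [1, 2, 3, 4, 5, 6, 7], [9, l, 9, l] ∈ pres.relWords) l (by simp; omega)) hi9
    intro l h1 h10
    by_cases h : l = 8
    · subst h
      exact step (n := 1) (by omega) h1 h10 (by decide +kernel) (h8 1 le_rfl (by omega) (by omega))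
    · exact h8 l h1 h10 h
  -- the short word carries both braids into the centraliser of `l`
  set g := evalWord v W2 with hgdef
  have hok := intoC_ok
  simp only [Bool.and_eq_true, List.all_eq_true] at hok
  have hin : ∀ m ∈ [0, 4, 10, 11], ∃ p, ∃ D, e.pr D = 1 ∧ g * v m * g⁻¹ = D * h p ∧
      jh H p = evalWord pres.val W2 * pres.val m * (evalWord pres.val W2)⁻¹ :=
    fun m hm => into_h H hh hW2 ((by decide : ∀ m ∈ [0, 4, 10, 11], m < 12) m hm) (hok.2 m hm) hk
  choose P D hD heq hP using hin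
  have p_odd : ∀ m (hm : m ∈ [0, 4, 10, 11]), e.pr (h (P m hm)) * pres.val 10 ∈ commutator G := fun m hm => by
    rw [hh, hP]; exact odd_of_conj ((by decide : ∀ m ∈ [0, 4, 10, 11], m < 12) m hm) _
  have pass : ∀ {m n} (hm : m ∈ [0, 4, 10, 11]) (hn : n ∈ [0, 4, 10, 11]),
      (D m hm * h (P m hm)) * (D n hn * h (P n hn)) = D m hm * (D n hn)⁻¹ * (h (P m hm) * h (P n hn)) := by
    intro m n hm hn
    calc _ = D m hm * (h (P m hm) * D n hn) * h (P n hn) := by group
      _ = _ := by rw [odd_move hinv (p_odd m hm) (hD n hn)]; group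
  have hsame : ∀ m (hm : m ∈ [0, 4, 10, 11]), Commute (v m) (v 4) → D m hm = D 4 (by decide) := by
    intro m hm hcm
    have hm12 := (by decide : ∀ m ∈ [0, 4, 10, 11], m < 12) m hm
    have hG : Commute (pres.val m) (pres.val 4) := by
      have := hcm.map e.pr
      rwa [hv, pr_lifts H hh hk hm12, pr_lifts H hh hk (by omega)] at this
    have hp2 : h (P m hm) * h (P 4 (by decide)) = h (P 4 (by decide)) * h (P m hm) := by
      rw [← map_mul, ← map_mul]
      refine h_inj H hh ?_
      simp only [map_mul, hh, hP]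
      rw [conj_mul, conj_mul, hG.eq]
    have e1 : (g * v m * g⁻¹) * (g * v 4 * g⁻¹) = (g * v 4 * g⁻¹) * (g * v m * g⁻¹) := by
      rw [conj_mul, conj_mul, hcm.eq]
    rw [heq m hm, heq 4 (by decide), pass, pass, ← hp2] at e1
    have e2 := mul_right_cancel e1
    have hd : e.pr (D m hm * (D 4 (by decide))⁻¹) = 1 := by rw [map_mul, map_inv, hD, hD, inv_one, mul_one]
    have e3 := htwo _ hd (by
      calc (D m hm * (D 4 (by decide))⁻¹) * (D m hm * (D 4 (by decide))⁻¹)
          = (D 4 (by decide) * (D m hm)⁻¹) * (D m hm * (D 4 (by decide))⁻¹) := by rw [← e2]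
        _ = 1 := by group)
    exact mul_inv_eq_one.mp e3
  have d10 := hsame 10 (by decide) (lifts_comm H hh hel (by omega) (by omega)
    (Fi24.comm_of_rel (by decide +kernel)))
  have d0 := hsame 0 (by decide) (lifts_comm H hh hel (by omega) (by omega)
    (Fi24.comm_of_rel (by decide +kernel)))
  have d11 := hsame 11 (by decide) (by rw [v11]; exact hc 4 (by omega) (by omega))
  have brk : ∀ t (ht : t ∈ [0, 4, 10, 11]), (t = 0 ∨ t = 10) → D t ht = D 4 (by decide) →
      k * (v t * k) = v t * (k * v t) := by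
    intro t ht ht' hd
    have hG : pres.val 11 * pres.val t * pres.val 11 = pres.val t * pres.val 11 * pres.val t := by
      have e0 := Fi24.braid3 (t := t) ht'
      simpa [evalWord, mul_assoc] using e0
    have hp2 : h (P 11 (by decide)) * h (P t ht) * h (P 11 (by decide)) =
        h (P t ht) * h (P 11 (by decide)) * h (P t ht) := by
      rw [← map_mul, ← map_mul, ← map_mul, ← map_mul]
      refine h_inj H hh ?_
      simp only [map_mul, hh, hP]
      rw [conj_mul, conj_mul, conj_mul, conj_mul, hG]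
    have e1 : ∀ {m n} (hm : m ∈ [0, 4, 10, 11]) (hn : n ∈ [0, 4, 10, 11]), D m hm = D n hn →
        g * (v m * v n * v m) * g⁻¹ = D n hn * (h (P m hm) * h (P n hn) * h (P m hm)) := by
      intro m n hm hn hmn
      rw [← conj_mul, ← conj_mul, heq m hm, heq n hn, pass, hmn, mul_inv_cancel, one_mul]
      calc h (P m hm) * h (P n hn) * (D n hn * h (P m hm))
          = h (P m hm) * (h (P n hn) * D n hn) * h (P m hm) := by group
        _ = h (P m hm) * (D n hn)⁻¹ * (h (P n hn) * h (P m hm)) := by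
          rw [odd_move hinv (p_odd n hn) (hD n hn)]; group
        _ = _ := by
          rw [odd_move hinv (p_odd m hm) (show e.pr (D n hn)⁻¹ = 1 by rw [map_inv, hD, inv_one]), inv_inv]
          group
    have e2 : g * (v 11 * v t * v 11) * g⁻¹ = g * (v t * v 11 * v t) * g⁻¹ := by
      rw [e1 _ _ (d11.trans hd.symm), e1 _ _ (hd.trans d11.symm), hp2, d11, hd]
    have e3 := mul_left_cancel (mul_right_cancel e2)
    rw [v11] at e3
    simpa [mul_assoc] using e3
  have br : ∀ t, t = 0 ∨ t = 10 → k * (v t * k) = v t * (k * v t) := by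
    rintro t (rfl | rfl)
    exacts [brk 0 (by decide) (Or.inl rfl) d0, brk 10 (by decide) (Or.inr rfl) d10]
  -- the last generator of the stabiliser commutes up to order three
  set x := evalWord v Fi23.Tri.xFull with hxdef
  have hxlt : ∀ l ∈ Fi23.Tri.xFull, l < 11 := fun l hl => by have := Exist24.xFull_lt l hl; omega
  have hxG : e.pr x = evalWord pres.val Fi23.Tri.xFull :=
    pr_lifts_word H hh hk fun l hl => by have := hxlt l hl; omega
  have x_odd : e.pr x * pres.val 10 ∈ commutator G := by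
    have := even_word (W := Fi23.Tri.xFull) fun l hl => by have := hxlt l hl; omega
    rw [← hxG] at this
    rwa [show pres.val 10 ^ Fi23.Tri.xFull.length = pres.val 10 from by
      rw [show Fi23.Tri.xFull.length = 2 * (Fi23.Tri.xFull.length / 2) + 1 by decide, pow_succ, pow_mul, pow_two,
        Fi24.val_sq, one_pow, one_mul]] at this
  have xsq : x * x = 1 := odd_sq hinv htwo x_odd (by rw [hxG]; exact (x_G H).2)
  set τ := k * (x * k * x) with hτ
  have hτ1 : e.pr τ = 1 := by
    rw [hτ, map_mul, map_mul, map_mul, hk, hxG, ← (x_G H).1.eq, mul_assoc (pres.val 11), (x_G H).2, mul_one,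
      Fi24.val_sq]
  have xkx : x * k * x = k * τ := by rw [hτ, ← mul_assoc k k, ksq, one_mul]
  have lx : Commute x e.lt := by rw [hxdef, hv, lifts_word hel hxlt]; exact (hlt _).symm
  have hτ3 : τ ^ 3 = 1 := by
    have l_odd : e.pr e.lt * pres.val 10 ∈ commutator G := e.lt_pr.symm ▸ odd_val (by omega)
    have hb := br 10 (Or.inr rfl)
    rw [v10] at hb
    have cx : ∀ a b c : Γ, x * a * x * (x * b * x) * (x * c * x) = x * (a * b * c) * x := by
      intro a b c
      calc x * a * x * (x * b * x) * (x * c * x) = x * a * (x * x) * b * (x * x) * c * x := by group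
        _ = _ := by rw [xsq]; simp only [mul_one, mul_assoc]
    have el1 : x * e.lt * x = e.lt := by rw [lx.eq, mul_assoc, xsq, mul_one]
    have e1 : (k * τ) * e.lt * (k * τ) = e.lt * (k * τ) * e.lt := by
      have := congrArg (fun y => x * y * x) hb
      simp only [← mul_assoc] at this
      have a1 := cx k e.lt k
      have a2 := cx e.lt k e.lt
      rw [xkx, el1] at a1 a2
      rw [a1, a2]
      simpa [mul_assoc] using this
    have hki : ∀ {a}, e.pr a = 1 → k * a = a⁻¹ * k := fun ha => odd_move hinv k_odd ha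
    have hli : ∀ {a}, e.pr a = 1 → e.lt * a = a⁻¹ * e.lt := fun ha => odd_move hinv l_odd ha
    have hτi : e.pr τ⁻¹ = 1 := by rw [map_inv, hτ1, inv_one]
    have hτ2 : e.pr (τ * τ) = 1 := by rw [map_mul, hτ1, one_mul]
    have hk' : k * τ = τ⁻¹ * k := hki hτ1
    have hL : (k * τ) * e.lt * (k * τ) = τ⁻¹ * τ⁻¹ * (k * e.lt * k) := by
      rw [hk']
      calc τ⁻¹ * k * e.lt * (τ⁻¹ * k) = τ⁻¹ * k * (e.lt * τ⁻¹) * k := by group
        _ = τ⁻¹ * (k * τ) * (e.lt * k) := by rw [hli hτi, inv_inv]; group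
        _ = _ := by rw [hk']; group
    have hR : e.lt * (k * τ) * e.lt = τ * (e.lt * k * e.lt) := by
      rw [hk']
      calc e.lt * (τ⁻¹ * k) * e.lt = (e.lt * τ⁻¹) * k * e.lt := by group
        _ = _ := by rw [hli hτi, inv_inv]; group
    rw [hL, hR, show e.lt * k * e.lt = k * e.lt * k by rw [mul_assoc, ← hb, mul_assoc]] at e1
    have e2 := mul_right_cancel e1
    calc τ ^ 3 = τ * τ * τ := by rw [pow_succ, pow_two]
      _ = τ * τ * (τ⁻¹ * τ⁻¹) := by rw [e2]
      _ = 1 := by group
  -- modulo the elements of order three the walk closes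
  let T : Subgroup Γ :=
    { carrier := {a | e.pr a = 1 ∧ a ^ 3 = 1}
      one_mem' := ⟨map_one _, one_pow 3⟩
      mul_mem' := fun {a b} ha hb => ⟨by rw [map_mul, ha.1, hb.1, one_mul],
        by rw [(e.comm a b ha.1 hb.1).mul_pow, ha.2, hb.2, one_mul]⟩
      inv_mem' := fun {a} ha => ⟨by rw [map_inv, ha.1, inv_one], by rw [inv_pow, ha.2, inv_one]⟩ }
  haveI : T.Normal := ⟨fun a ha g => ⟨by rw [map_mul, map_mul, map_inv, ha.1, mul_one, mul_inv_cancel],
    by rw [conj_pow, ha.2, mul_one, mul_inv_cancel]⟩⟩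
  have hTk : T ≤ e.pr.ker := fun a ha => ha.1
  set q := QuotientGroup.mk' T with hq
  have qlift : ∀ l, lifts (e.quot T hTk) (q.comp h) (q k) l = q (v l) := by
    intro l
    rw [hv]; unfold lifts
    split_ifs
    exacts [rfl, rfl, rfl, (map_one q).symm]
  have qword : ∀ W, evalWord (lifts (e.quot T hTk) (q.comp h) (q k)) W = q (evalWord v W) := by
    intro W
    rw [Glue.evalWord_hom q v W]
    exact eval_congr fun l _ => qlift l
  have hz3 : evalWord v zW ^ 3 = 1 := by
    have hz1 := z_trivial (H := H) (mkLifts H (e := e.quot T hTk) (h := q.comp h) (fun p => hh p)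
      (show q (h (neg' 1)) = _ from congrArg q hel) (k := q k) hk (by rw [← map_mul, ksq, map_one])
      (fun l h1 h10 => by rw [qlift]; exact (hc l h1 h10).map q)
      (fun t ht => by rw [qlift]; simp only [← map_mul]; exact congrArg q (br t ht))
      (by
        rw [qword]
        have : q τ = 1 := (QuotientGroup.eq_one_iff τ).mpr ⟨hτ1, hτ3⟩
        show q k * q x = q x * q k
        rw [← map_mul, ← map_mul]
        calc q (k * x) = q ((k * τ) * τ⁻¹ * x) := by rw [mul_inv_cancel_right]
          _ = q (k * τ) * q x := by rw [map_mul, map_mul, map_inv, this, inv_one, mul_one]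
          _ = q (x * k * (x * x)) := by rw [← map_mul, ← xkx]; group
          _ = q (x * k) := by rw [xsq, mul_one]))
    have hz2 : evalWord (lifts (e.quot T hTk) (q.comp h) (q k)) zW = 1 := hz1
    rw [qword] at hz2
    exact ((QuotientGroup.eq_one_iff _).mp hz2).2
  set z := evalWord v zW with hzdef
  have hzK : e.pr z = 1 := by
    rw [hzdef, hv, pr_lifts_word H hh hk (by decide +kernel), zW_rel]
  haveI : (Subgroup.zpowers z).Normal := ⟨by
    intro a ha g
    obtain ⟨n, rfl⟩ := Subgroup.mem_zpowers_iff.mp ha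
    rw [← conj_zpow]
    refine zpow_mem ?_ n
    rcases even_or_odd (e.pr g) with hg | hg
    · rw [← (e.even z g hzK hg).eq, mul_inv_cancel_right]
      exact Subgroup.mem_zpowers z
    · rw [odd_inv hinv hg hzK]
      exact inv_mem (Subgroup.mem_zpowers z)⟩
  have hZk : Subgroup.zpowers z ≤ e.pr.ker := Subgroup.zpowers_le.mpr hzK
  set r := QuotientGroup.mk' (Subgroup.zpowers z) with hr
  have rlift : ∀ l, lifts (e.quot _ hZk) (r.comp h) (r k) l = r (v l) := by
    intro l
    rw [hv]; unfold lifts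
    split_ifs
    exacts [rfl, rfl, rfl, (map_one r).symm]
  have hbot := split_ker H (e.quot _ hZk) (h := r.comp h) (fun p => hh p) (show r (h (neg' 1)) = _ from congrArg r hel)
    (k := r k) hk (by rw [← map_mul, ksq, map_one]) (fun l h1 h10 => by rw [rlift]; exact (hc l h1 h10).map r)
    (fun t ht => by rw [rlift]; simp only [← map_mul]; exact congrArg r (br t ht))
    (by
      rw [eval_congr fun l _ => rlift l, ← Glue.evalWord_hom r v zW]
      exact (QuotientGroup.eq_one_iff _).mpr (Subgroup.mem_zpowers z))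
  have hle : e.pr.ker ≤ Subgroup.zpowers z := fun a ha => by
    have : r a ∈ (e.quot _ hZk).pr.ker := ha
    rw [hbot, Subgroup.mem_bot] at this
    exact (QuotientGroup.eq_one_iff a).mp this
  refine (Subgroup.card_dvd_of_le hle).trans ?_
  rw [Nat.card_zpowers]
  exact orderOf_dvd_of_pow_eq_one hz3

end Odd

theorem ker_mem {a : Γ} (g : Γ) (ha : e.pr a = 1) : e.pr (g * a * g⁻¹) = 1 := by
  rw [map_mul, map_mul, map_inv, ha, mul_one, mul_inv_cancel]

include H in
/-- The kernel of an extension has order dividing three. -/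
theorem upper (hL : LiftStmt H) : UpperStmt := by
  intro Γ _ _ e
  obtain ⟨h, hh, hel⟩ := hL Γ e
  have linv : e.lt⁻¹ = e.lt := inv_eq_of_mul_eq_one_right e.lt_sq
  have hc : ∀ {b}, e.pr b = 1 → e.pr (e.lt * b * e.lt) = 1 := fun {b} hb => by
    have := ker_mem (e := e) e.lt hb
    rwa [linv] at this
  let ψ : e.pr.ker →* e.pr.ker :=
    { toFun := fun b => ⟨(b : Γ) * (e.lt * (b : Γ)⁻¹ * e.lt), show e.pr _ = 1 by
        rw [map_mul, hc (show e.pr (b : Γ)⁻¹ = 1 by rw [map_inv, b.2, inv_one]), b.2, one_mul]⟩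
      map_one' := Subtype.ext (by simp [e.lt_sq])
      map_mul' := fun a b => Subtype.ext (by
        have hb' : e.pr (b : Γ)⁻¹ = 1 := by rw [map_inv, b.2, inv_one]
        have ha' : e.pr (a : Γ)⁻¹ = 1 := by rw [map_inv, a.2, inv_one]
        have c1 : Commute (b : Γ) (e.lt * (a : Γ)⁻¹ * e.lt) := e.comm _ _ b.2 (hc ha')
        have c2 : Commute (e.lt * (b : Γ)⁻¹ * e.lt) (e.lt * (a : Γ)⁻¹ * e.lt) := e.comm _ _ (hc hb') (hc ha')
        show (a : Γ) * b * (e.lt * ((a : Γ) * b)⁻¹ * e.lt) =
          (a : Γ) * (e.lt * (a : Γ)⁻¹ * e.lt) * ((b : Γ) * (e.lt * (b : Γ)⁻¹ * e.lt))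
        calc (a : Γ) * b * (e.lt * ((a : Γ) * b)⁻¹ * e.lt)
            = (a : Γ) * b * (e.lt * (b : Γ)⁻¹ * ((e.lt * e.lt) * (a : Γ)⁻¹) * e.lt) := by
              rw [e.lt_sq, one_mul, mul_inv_rev, ← mul_assoc e.lt]
          _ = (a : Γ) * b * ((e.lt * (b : Γ)⁻¹ * e.lt) * (e.lt * (a : Γ)⁻¹ * e.lt)) := by group
          _ = (a : Γ) * ((b : Γ) * (e.lt * (a : Γ)⁻¹ * e.lt)) * (e.lt * (b : Γ)⁻¹ * e.lt) := by
            rw [c2.eq]; group
          _ = _ := by rw [c1.eq]; group) }
  let R : Subgroup Γ := ψ.range.map e.pr.ker.subtype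
  have hRk : R ≤ e.pr.ker := fun a ⟨b, _, hb⟩ => hb ▸ b.2
  have hfix : ∀ {b}, e.pr b = 1 → e.lt * (b * (e.lt * b⁻¹ * e.lt)) * e.lt = b⁻¹ * (e.lt * b * e.lt) := by
    intro b hb
    calc e.lt * (b * (e.lt * b⁻¹ * e.lt)) * e.lt = (e.lt * b * e.lt) * b⁻¹ * (e.lt * e.lt) := by group
      _ = (e.lt * b * e.lt) * b⁻¹ := by rw [e.lt_sq, mul_one]
      _ = _ := (e.comm _ _ (hc hb) (show e.pr b⁻¹ = 1 by rw [map_inv, hb, inv_one])).eq
  haveI : R.Normal := ⟨by
    rintro _ ⟨_, ⟨b, rfl⟩, rfl⟩ g
    show g * ((b : Γ) * (e.lt * (b : Γ)⁻¹ * e.lt)) * g⁻¹ ∈ R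
    have ha : e.pr ((b : Γ) * (e.lt * (b : Γ)⁻¹ * e.lt)) = 1 := hRk ⟨ψ b, ⟨b, rfl⟩, rfl⟩
    rcases even_or_odd (e.pr g) with hg | hg
    · rw [← (e.even _ g ha hg).eq, mul_inv_cancel_right]
      exact ⟨ψ b, ⟨b, rfl⟩, rfl⟩
    · have hev : e.pr (g * e.lt) ∈ commutator G := by rwa [map_mul, e.lt_pr]
      have h1 := (e.even _ (g * e.lt) (hc ha) hev).eq
      have h2 : g * ((b : Γ) * (e.lt * (b : Γ)⁻¹ * e.lt)) * g⁻¹ =
          e.lt * ((b : Γ) * (e.lt * (b : Γ)⁻¹ * e.lt)) * e.lt := by
        calc g * ((b : Γ) * (e.lt * (b : Γ)⁻¹ * e.lt)) * g⁻¹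
            = (g * e.lt) * (e.lt * ((b : Γ) * (e.lt * (b : Γ)⁻¹ * e.lt)) * e.lt) * (g * e.lt)⁻¹ := by
              rw [mul_inv_rev, linv]
              generalize (b : Γ) * (e.lt * (b : Γ)⁻¹ * e.lt) = a
              calc g * a * g⁻¹ = g * (e.lt * e.lt) * a * (e.lt * e.lt) * g⁻¹ := by rw [e.lt_sq, mul_one, mul_one]
                _ = _ := by group
          _ = _ := by rw [← h1, mul_inv_cancel_right]
      rw [h2, hfix b.2]
      exact ⟨ψ b⁻¹, ⟨b⁻¹, rfl⟩, by show (b : Γ)⁻¹ * (e.lt * ((b : Γ)⁻¹)⁻¹ * e.lt) = _; rw [inv_inv]⟩⟩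
  set q := QuotientGroup.mk' R with hq
  have hlt : ∀ a, e.pr a = 1 → q (e.lt * a * e.lt) = q a := fun a ha => by
    have : q ((a : Γ) * (e.lt * a⁻¹ * e.lt)) = 1 := (QuotientGroup.eq_one_iff _).mpr ⟨ψ ⟨a, ha⟩, ⟨⟨a, ha⟩, rfl⟩, rfl⟩
    rw [map_mul, mul_eq_one_iff_inv_eq] at this
    apply inv_injective
    rw [← map_inv, mul_inv_rev, mul_inv_rev, linv, ← mul_assoc, this]
  have hcen : ∀ a g, (e.quot R hRk).pr a = 1 → Commute a g := by
    intro a g ha
    obtain ⟨x, rfl⟩ := QuotientGroup.mk'_surjective R a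
    obtain ⟨y, rfl⟩ := QuotientGroup.mk'_surjective R g
    have hx : e.pr x = 1 := ha
    rcases even_or_odd (e.pr y) with hy | hy
    · exact (e.even x y hx hy).map q
    · have h1 : Commute x (y * e.lt) := e.even x _ hx (by rwa [map_mul, e.lt_pr])
      have h2 : Commute (q x) (q e.lt) := by
        show q x * q e.lt = q e.lt * q x
        calc q x * q e.lt = q (e.lt * x * e.lt) * q e.lt := by rw [hlt x hx]
          _ = q e.lt * q x := by rw [← map_mul, mul_assoc, e.lt_sq, mul_one, map_mul]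
      have h3 := (h1.map q).mul_right h2
      rwa [← map_mul, mul_assoc, e.lt_sq, mul_one] at h3
  have hbot := central H (e := e.quot R hRk) (h := q.comp h) (fun p => hh p)
    (show q (h (neg' 1)) = _ from congrArg q hel) hcen
  have hsurj : Function.Surjective ψ := by
    rintro ⟨a, ha⟩
    have : q a ∈ (e.quot R hRk).pr.ker := ha
    rw [hbot, Subgroup.mem_bot] at this
    obtain ⟨c, ⟨b, hb⟩, hc'⟩ := (QuotientGroup.eq_one_iff a).mp this
    exact ⟨b, Subtype.ext (by rw [hb]; exact hc')⟩
  have hinv : ∀ a, e.pr a = 1 → e.lt * a * e.lt = a⁻¹ := by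
    intro a ha
    obtain ⟨b, hb⟩ := hsurj ⟨a, ha⟩
    have hb' : (b : Γ) * (e.lt * (b : Γ)⁻¹ * e.lt) = a := congrArg Subtype.val hb
    rw [← hb', hfix b.2, mul_inv_rev, mul_inv_rev, mul_inv_rev, linv, inv_inv, ← mul_assoc e.lt]
    exact (e.comm _ _ (show e.pr (b : Γ)⁻¹ = 1 by rw [map_inv, b.2, inv_one]) (hc b.2)).eq
  refine odd H hh hel hinv (fun a ha h2 => ?_) inferInstance
  have hinj := Finite.injective_iff_surjective.mpr hsurj
  have e1 : ψ ⟨a, ha⟩ = ψ 1 := by
    rw [map_one]
    apply Subtype.ext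
    show a * (e.lt * a⁻¹ * e.lt) = 1
    rw [hinv a⁻¹ (by rw [map_inv, ha, inv_one]), inv_inv, h2]
  exact congrArg Subtype.val (hinj e1)

end Cfsg.Agent.Fi24Mult77
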